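import Cfsg.Agent.Lib.UThreeLocal.Two.Main
import Cfsg.Agent.Lib.ThreeTransp.U62Cent.Coord
import Cfsg.Agent.Lib.ThreeTransp.U62Cent.Count

/-!
# The centraliser of an involution normalises the extraspecial group of order `2⁹`
-/

set_option autoImplicit false
set_option linter.unusedSectionVars false
set_option linter.style.haveILetI false
set_option maxRecDepth 100000

namespace Cfsg.Agent.UThreeLocal.Two

open Subgroup
open Cfsg.Agent.ThreeTransp.U62Cent
open Cfsg.Agent.ThreeTransp.U62Cent.W8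

universe u

/-- An isometry normalising the simple image which is not linear is semilinear. -/
theorem semi_of_normalize {I : Subgroup (Equiv.Perm W8)} (hN : INat I) {t : Equiv.Perm W8}
    (hiso : IsIso true false t) (hnorm : ∀ g ∈ I, t⁻¹ * g * t ∈ I) (hI : t ∉ GN) (v : W8) :
    t (W8.sig v) = W8.sig (W8.sig (t v)) := by
  have htadd : ∀ v w, t (v + w) = t v + t w := hiso.add
  let f : Equiv.Perm W8 := t * sigP * t⁻¹
  have hfadd : ∀ v w, f (v + w) = f v + f w := fun v w => by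
    show t (W8.sig (t.symm (v + w))) = t (W8.sig (t.symm v)) + t (W8.sig (t.symm w))
    have hs : t.symm (v + w) = t.symm v + t.symm w :=
      t.injective (by rw [htadd]; simp)
    rw [hs, W8.sig_add, htadd]
  have hfc : ∀ g ∈ I, ∀ v, f (g v) = g (f v) := by
    intro g hg v
    have h2 := (hN.le (hnorm g hg)).sig rfl (t.symm v)
    show t (W8.sig (t.symm (g v))) = g (t (W8.sig (t.symm v)))
    simp only [Equiv.Perm.mul_apply, Equiv.Perm.inv_def, Equiv.apply_symm_apply] at h2
    rw [← h2]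
    simp
  -- the value at one singular vector
  obtain ⟨⟨v0, hv0⟩, hL, hdec⟩ := N.five_facts
  obtain ⟨g0, hg0, eg0⟩ := hN.word N.reps_ok.1
  have hf5 : f (W8.mk 5) ∈ N.L0 := by
    have h := hfc g0 hg0 v0
    rw [eg0] at h
    rw [← hv0, hfadd, show f (N.a0 v0) = N.a0 (f v0) from h]
    exact N.L0_iff.1 _
  have hf0 : f (W8.mk 5) ≠ 0 := fun e =>
    absurd (f.injective (e.trans (additive_zero hfadd).symm)) (by decide +kernel)
  obtain ⟨k, hk⟩ : ∃ k : ℕ, k < 3 ∧ f (W8.mk 5) = (sigP ^ k) (W8.mk 5) := by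
    rcases hL _ hf5 with e | e | e | e
    · exact absurd e hf0
    · exact ⟨0, by norm_num, e⟩
    · exact ⟨1, by norm_num, e⟩
    · exact ⟨2, by norm_num, e⟩
  have hfall : ∀ v, f v = (sigP ^ k) v := by
    have hsing : ∀ s, s ≠ 0 → qe true s = false → f s = (sigP ^ k) s := by
      intro s h0 hq
      obtain ⟨g, hg, rfl⟩ := hN.trans5 h0 hq
      have hgk : g * sigP ^ k = sigP ^ k * g :=
        Commute.pow_right (Equiv.ext fun v => (hN.le hg).sig rfl v) k
      rw [hfc g hg, hk.2, ← Equiv.Perm.mul_apply, hgk]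
      rfl
    have hkadd : ∀ v w, (sigP ^ k) (v + w) = (sigP ^ k) v + (sigP ^ k) w :=
      (pow_mem sigP_mem k : sigP ^ k ∈ GN).add
    intro v
    refine W8.basis_add v (f := f) (g := ⇑(sigP ^ k)) hfadd hkadd fun w hw => ?_
    obtain ⟨a, b, ha, hb, hqa, hqb, rfl⟩ := hdec w hw
    rw [hfadd, hkadd, hsing a ha hqa, hsing b hb hqb]
  have hrel : ∀ v, t (W8.sig v) = (sigP ^ k) (t v) := fun v => by
    have h := hfall (t v)
    show t (W8.sig v) = _
    rw [← h]
    show t (W8.sig v) = t (W8.sig (t.symm (t v)))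
    rw [Equiv.symm_apply_apply]
  obtain ⟨hk3, -⟩ := hk
  interval_cases k
  · exfalso
    have := hrel (W8.mk 5)
    exact N.sig_ne (t.injective this)
  · exact absurd ⟨htadd, hiso.q, fun _ v => hrel v⟩ hI
  · exact hrel v

variable {G : Type u} [Group G] [Finite G]

/-- What the local subgroup does on the extraspecial group. -/
structure Act (r : G) (R N N0 : Subgroup G) where
  vec : G → W8
  π : ↥N →* Equiv.Perm W8
  I : Subgroup (Equiv.Perm W8)
  himg : Img I π.range
  inner : ∀ n : ↥N, (n : G) ∈ N0 → π n ∈ I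
  vec_mul : ∀ {x y : G}, x ∈ R → y ∈ R → vec (x * y) = vec x + vec y
  vec_r : vec r = 0
  vec_cases : ∀ {x : G}, x ∈ R → vec x = 0 → x = 1 ∨ x = r
  surj : ∀ v : W8, ∃ x ∈ R, vec x = v
  vec_conj : ∀ (n : ↥N) {x : G}, x ∈ R → vec ((n : G) * x * (n : G)⁻¹) = π n (vec x)
  ker : ∀ n : ↥N, π n = 1 ↔ (n : G) ∈ R
  sq : ∀ {x : G}, x ∈ R → x * x = zb r (qe true (vec x))

set_option maxHeartbeats 1600000 in
/-- The action exists when the simple part is not of split shape. -/
theorem exists_act {r : G} (hr : orderOf r = 2) {R : Subgroup G} (hR : Cfsg.IsExtraspecial 2 ↥R)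
    (hRc : Nat.card ↥R = 512) (hZR : (center ↥R).map R.subtype = zpowers r)
    (hCR : centralizer (R : Set G) = zpowers r) {F : Type*} [Field F] [Fintype F] (hF : Fintype.card F = 3)
    {N0 : Subgroup G} (hR0 : R ≤ N0) (hN0 : N0 ≤ centralizer ({r} : Set G) ⊓ normalizer (R : Set G))
    (hnorm : ∀ n ∈ centralizer ({r} : Set G) ⊓ normalizer (R : Set G), ∀ m ∈ N0, n * m * n⁻¹ ∈ N0)
    (ψ : ↥N0 →* Cfsg.PSp 2 F) (hψs : Function.Surjective ψ) (hψk : ∀ m, ψ m = 1 ↔ (m : G) ∈ R)
    (A : Subgroup G) (hAexp : ∀ a ∈ A, a ^ 3 = 1) (hAR : R ⊓ centralizer ((A ⊓ N0 : Subgroup G) : Set G) ≤ zpowers r) :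
    Nonempty (Act r R (centralizer ({r} : Set G) ⊓ normalizer (R : Set G)) N0) := by
  classical
  haveI : Fact (Nat.Prime 2) := ⟨Nat.prime_two⟩
  haveI : Fact (Nat.Prime 3) := ⟨Nat.prime_three⟩
  set N := centralizer ({r} : Set G) ⊓ normalizer (R : Set G) with hNdef
  have hrR : r ∈ R := by
    have h : r ∈ (center ↥R).map R.subtype := hZR ▸ mem_zpowers r
    exact map_subtype_le _ h
  -- the simple group
  let K := GaloisField 2 2
  letI : Fintype K := Fintype.ofFinite K
  have hK : Fintype.card K = 4 := by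
    rw [← Nat.card_eq_fintype_card, GaloisField.card 2 2 two_ne_zero]
    norm_num
  obtain ⟨e2⟩ := Cfsg.Agent.S0822.result (F := K) (K := F) hK hF
  obtain ⟨e3⟩ := Cfsg.Agent.S0303.result (F := ZMod 2) (K := K) (q := 2) (ZMod.card 2)
    (by rw [hK]; norm_num) (1 : ZMod 2) 1 Cfsg.Agent.SuzukiType.anis
  rw [← Cfsg.Agent.Classical.OrthForms.minQ_eq] at e3
  have hc := Cfsg.Agent.Classical.Orth.natCard_center_one
    (Cfsg.Agent.Classical.OrthForms.minQ_nondeg 2 Cfsg.Agent.SuzukiType.anis)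
    (Cfsg.Agent.Classical.OrthForms.minFrame (ZMod 2) le_rfl 1 1) (by simp) (Or.inl (show (2 : ZMod 2) = 0 from rfl))
  rw [Subgroup.card_eq_one] at hc
  let e1 : OmG ≃* Cfsg.PSU 4 K 2 :=
    ((QuotientGroup.quotientMulEquivOfEq hc).trans QuotientGroup.quotientBot).symm.trans e3
  let ι : Cfsg.PSp 2 F ≃* OmG := e2.symm.trans e1.symm
  haveI : IsSimpleGroup OmG := Cfsg.Agent.SuzukiType.omega_simple
  haveI : Nontrivial (Cfsg.PSp 2 F) := ι.toEquiv.nontrivial
  haveI hsimp : IsSimpleGroup (Cfsg.PSp 2 F) :=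
    IsSimpleGroup.isSimpleGroup_of_surjective ι.symm.toMonoidHom ι.symm.surjective
  have hcardS : Nat.card (Cfsg.PSp 2 F) = 25920 :=
    (Nat.card_congr ι.toEquiv).trans Cfsg.Agent.SuzukiType.card_omega
  -- inside the simple part
  set z1 : ↥N0 := ⟨r, hR0 hrR⟩ with hz1d
  have mem_ctop : ∀ x : ↥N0, x ∈ centralizer ({z1} : Set ↥N0) := fun x =>
    mem_centralizer_singleton_iff.2 (Subtype.ext (mem_centralizer_singleton_iff.1 (hN0 x.2).1))
  have hO : ∀ x : ↥N0, x ∈ O2c z1 ↔ (x : G) ∈ R := by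
    intro x
    set C1 := centralizer ({z1} : Set ↥N0) with hC1
    let ψ1 : ↥C1 →* Cfsg.PSp 2 F := ψ.comp C1.subtype
    have hψ1s : Function.Surjective ψ1 := fun s => by
      obtain ⟨x, hx⟩ := hψs s
      exact ⟨⟨x, mem_ctop x⟩, hx⟩
    have hker : IsPGroup 2 ↥ψ1.ker := by
      refine (IsPGroup.of_card (p := 2) (n := 9) (hRc.trans (by norm_num))).of_injective
        ({ toFun := fun y => (⟨((y : ↥C1) : ↥N0), (hψk _).1 y.2⟩ : ↥R)
           map_one' := rfl
           map_mul' := fun _ _ => rfl } : ↥ψ1.ker →* ↥R) ?_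
      intro a b h
      have h' : (((a : ↥C1) : ↥N0) : G) = (((b : ↥C1) : ↥N0) : G) :=
        congrArg (fun q : ↥R => (q : G)) h
      exact Subtype.ext (Subtype.ext (Subtype.ext h'))
    have hbot : (Cfsg.pCore 2 ↥C1).map ψ1 = ⊥ := by
      haveI : (Cfsg.pCore 2 ↥C1).Normal := inferInstance
      haveI hn : ((Cfsg.pCore 2 ↥C1).map ψ1).Normal := Normal.map inferInstance ψ1 hψ1s
      refine hn.eq_bot_or_eq_top.resolve_right fun h => ?_
      have hp := (Cfsg.Agent.Cores.pCore_isPGroup (G := ↥C1) 2).map ψ1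
      rw [h] at hp
      obtain ⟨k, hk⟩ := IsPGroup.iff_card.1 (hp.of_equiv Subgroup.topEquiv)
      rw [hcardS] at hk
      have : 3 ∣ 2 ^ k := hk ▸ ⟨8640, by norm_num⟩
      exact absurd (Nat.Prime.dvd_of_dvd_pow Nat.prime_three this) (by norm_num)
    constructor
    · rintro ⟨c, hc, rfl⟩
      refine (hψk _).1 ?_
      have : ψ1 c ∈ (Cfsg.pCore 2 ↥C1).map ψ1 := mem_map_of_mem _ hc
      rw [hbot, mem_bot] at this
      exact this
    · intro hx
      exact ⟨⟨x, mem_ctop x⟩, Cfsg.Agent.Cores.le_pCore hker (show ψ1 ⟨x, _⟩ = 1 from (hψk x).2 hx), rfl⟩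
  have hmap : (O2c z1).map N0.subtype = R := by
    ext x
    constructor
    · rintro ⟨y, hy, rfl⟩; exact (hO y).1 hy
    · intro hx; exact ⟨⟨x, hR0 hx⟩, (hO _).2 hx, rfl⟩
  let em1 : ↥(O2c z1) ≃* ↥R :=
    ((O2c z1).equivMapOfInjective N0.subtype N0.subtype_injective).trans (MulEquiv.subgroupCongr hmap)
  have hz1 : orderOf z1 = 2 := by rw [← Subgroup.orderOf_coe]; exact hr
  have hctr1 : Cfsg.Agent.LargeExtra.Ctr (O2c z1) z1 := by
    refine Cfsg.Agent.LargeExtra.setting_base (fun x => O2c x) (fun _ => rfl) hz1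
      (Cfsg.Agent.LargeExtra.isExtraspecial_of_equiv hR em1.symm) ?_
    intro x hx
    refine (hO x).2 ((zpowers_le.2 hrR) (hCR ▸ mem_centralizer_iff.2 fun y hy => ?_))
    exact congrArg Subtype.val (mem_centralizer_iff.1 hx ⟨y, hR0 hy⟩ ((hO _).2 hy))
  obtain ⟨M1⟩ := exists_coord_of_hom hctr1 (by rw [Nat.card_congr em1.toEquiv, hRc])
    (ι.toMonoidHom.comp (ψ.comp (centralizer ({z1} : Set ↥N0)).subtype))
    (fun o => by
      obtain ⟨x, hx⟩ := hψs (ι.symm o)
      exact ⟨⟨x, mem_ctop x⟩, by simp [hx]⟩)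
    (fun c => by
      show ι (ψ c) = 1 ↔ _
      rw [map_eq_one_iff ι ι.injective, hψk, hO])
  -- transport
  let vec : G → W8 := fun x => if h : x ∈ N0 then M1.vec ⟨x, h⟩ else 0
  have hvec : ∀ {x : G} (h : x ∈ N0), vec x = M1.vec ⟨x, h⟩ := fun h => dif_pos h
  have hmul : ∀ {x y : G}, x ∈ R → y ∈ R → vec (x * y) = vec x + vec y := by
    intro x y hx hy
    rw [hvec (hR0 hx), hvec (hR0 hy), hvec (hR0 (mul_mem hx hy))]
    exact M1.vec_mul ((hO ⟨x, hR0 hx⟩).2 hx) ((hO ⟨y, hR0 hy⟩).2 hy)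
  have hsurj : ∀ v, ∃ x ∈ R, vec x = v := by
    intro v
    obtain ⟨y, hy, hv⟩ := M1.surj v
    exact ⟨y, (hO y).1 hy, by rw [hvec y.2, Subtype.coe_eta, hv]⟩
  have hvz : vec r = 0 := by rw [hvec (hR0 hrR)]; exact M1.vec_z
  have hcases : ∀ {x : G}, x ∈ R → vec x = 0 → x = 1 ∨ x = r := by
    intro x hx h0
    rw [hvec (hR0 hx)] at h0
    exact (M1.vec_cases ((hO ⟨x, hR0 hx⟩).2 hx) h0).imp (congrArg Subtype.val) (congrArg Subtype.val)
  have hzbv : ∀ t, ((zb z1 t : ↥N0) : G) = zb r t := fun t => by cases t <;> rfl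
  have hsq : ∀ {x : G}, x ∈ R → x * x = zb r (qe M1.e (vec x)) := by
    intro x hx
    rw [hvec (hR0 hx), ← hzbv, ← M1.sq ((hO ⟨x, hR0 hx⟩).2 hx)]
    rfl
  choose out hout houtv using hsurj
  have hcJ : ∀ (c : ↥N) {x : G}, x ∈ R → (c : G) * x * (c : G)⁻¹ ∈ R := fun c {x} hx =>
    (mem_normalizer_iff.1 c.2.2 x).1 hx
  have hrc : ∀ c : ↥N, (c : G) * r * (c : G)⁻¹ = r := fun c => by
    rw [mem_centralizer_singleton_iff.1 c.2.1, mul_inv_cancel_right]
  let act : ↥N → W8 → W8 := fun c v => vec ((c : G) * out v * (c : G)⁻¹)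
  have hact : ∀ (c : ↥N) {x : G}, x ∈ R → vec ((c : G) * x * (c : G)⁻¹) = act c (vec x) := by
    intro c x hx
    have hd : vec ((out (vec x))⁻¹ * x) = 0 := by
      have h1 := hmul (hout (vec x)) (mul_mem (inv_mem (hout (vec x))) hx)
      rw [mul_inv_cancel_left, houtv] at h1
      exact left_eq_add.1 h1
    have e0 : vec ((c : G) * ((out (vec x))⁻¹ * x) * (c : G)⁻¹) = 0 := by
      rcases hcases (mul_mem (inv_mem (hout _)) hx) hd with h | h <;> rw [h]
      · rw [mul_one, mul_inv_cancel, hvec (hR0 (one_mem _))]; exact M1.vec_one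
      · rw [hrc, hvz]
    calc vec ((c : G) * x * (c : G)⁻¹)
        = vec ((c : G) * out (vec x) * (c : G)⁻¹ * ((c : G) * ((out (vec x))⁻¹ * x) * (c : G)⁻¹)) := by
          congr 1; group
      _ = _ := by rw [hmul (hcJ c (hout _)) (hcJ c (mul_mem (inv_mem (hout _)) hx)), e0, add_zero]
  have hact_mul : ∀ (c d : ↥N) (v : W8), act (c * d) v = act c (act d v) := by
    intro c d v
    rw [← hact c (hcJ d (hout v))]
    show vec (((c * d : ↥N) : G) * out v * ((c * d : ↥N) : G)⁻¹) = _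
    congr 1; push_cast; group
  have hact_one : ∀ v, act 1 v = v := fun v => by
    show vec ((1 : G) * out v * (1 : G)⁻¹) = v
    rw [one_mul, inv_one, mul_one, houtv]
  let π : ↥N →* Equiv.Perm W8 :=
    { toFun := fun c =>
        { toFun := act c
          invFun := act c⁻¹
          left_inv := fun v => by rw [← hact_mul, inv_mul_cancel, hact_one]
          right_inv := fun v => by rw [← hact_mul, mul_inv_cancel, hact_one] }
      map_one' := Equiv.ext hact_one
      map_mul' := fun c d => Equiv.ext (hact_mul c d) }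
  have hagree : ∀ (c : ↥N) (hc : (c : G) ∈ N0), π c = M1.π ⟨⟨c, hc⟩, mem_ctop _⟩ := by
    intro c hc
    refine Equiv.ext fun v => ?_
    show vec ((c : G) * out v * (c : G)⁻¹) = _
    rw [hvec (hR0 (hcJ c (hout v)))]
    have h := M1.vec_conj ⟨⟨c, hc⟩, mem_ctop _⟩ ((hO ⟨out v, hR0 (hout v)⟩).2 (hout v))
    rw [← hvec (hR0 (hout v)), houtv] at h
    rw [← h]
    congr 1
  have hker : ∀ c : ↥N, π c = 1 ↔ (c : G) ∈ R := by
    intro c
    constructor
    · intro hc
      let φ : ↥R ≃* ↥R :=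
        { toFun := fun x => ⟨(c : G) * x * (c : G)⁻¹, hcJ c x.2⟩
          invFun := fun x => ⟨(c : G)⁻¹ * x * (c : G), by simpa using hcJ c⁻¹ x.2⟩
          left_inv := fun x => Subtype.ext (by simp [mul_assoc])
          right_inv := fun x => Subtype.ext (by simp [mul_assoc])
          map_mul' := fun x y => Subtype.ext (by simp [mul_assoc]) }
      obtain ⟨g, hg⟩ := Cfsg.Agent.Transfer.Special.exists_inner_of_trivial_mod_center hR φ fun x => by
        have hx := hact c x.2
        rw [show act c (vec (x : G)) = π c (vec (x : G)) from rfl, hc, Equiv.Perm.one_apply] at hx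
        have hv0 : vec ((c : G) * x * (c : G)⁻¹ * (x : G)⁻¹) = 0 := by
          have h1 := hmul (x := (c : G) * x * (c : G)⁻¹ * (x : G)⁻¹) (mul_mem (hcJ c x.2) (inv_mem x.2)) x.2
          rw [inv_mul_cancel_right, hx] at h1
          exact right_eq_add.1 h1
        have hmem : (c : G) * x * (c : G)⁻¹ * (x : G)⁻¹ ∈ (center ↥R).map R.subtype := by
          rw [hZR]
          rcases hcases (mul_mem (hcJ c x.2) (inv_mem x.2)) hv0 with e | e <;> rw [e]
          · exact one_mem _
          · exact mem_zpowers r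
        obtain ⟨y, hy, ey⟩ := hmem
        have e : φ x * x⁻¹ = y := Subtype.ext ey.symm
        rw [e]; exact hy
      have hcg : (g : G)⁻¹ * c ∈ centralizer (R : Set G) := mem_centralizer_iff.2 fun y hy => by
        have e : (c : G) * y * (c : G)⁻¹ = (g : G) * y * (g : G)⁻¹ := congrArg Subtype.val (hg ⟨y, hy⟩)
        calc y * ((g : G)⁻¹ * c) = (g : G)⁻¹ * ((g : G) * y * (g : G)⁻¹) * c := by group
          _ = (g : G)⁻¹ * ((c : G) * y * (c : G)⁻¹) * c := by rw [e]
          _ = _ := by group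
      rw [hCR] at hcg
      simpa using mul_mem g.2 (zpowers_le.2 hrR hcg)
    · intro hc
      rw [hagree c (hR0 hc), M1.ker, hO]
      exact hc
  let inc : ↥N0 →* ↥N := Subgroup.inclusion hN0
  have hIle : M1.π.range ≤ π.range := by
    rintro _ ⟨c, rfl⟩
    exact ⟨inc c.1, hagree (inc c.1) c.1.2⟩
  have hinner : ∀ n : ↥N, (n : G) ∈ N0 → π n ∈ M1.π.range := fun n hn => ⟨_, (hagree n hn).symm⟩
  -- the natural shape
  obtain ⟨he, hnat⟩ : M1.e = true ∧ INat M1.π.range := by
    refine M1.shape_cases.resolve_right fun hS => ?_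
    set v := W8.e 6 with hv
    have hv0 : v ≠ 0 := by decide +kernel
    have hmem : out v ∈ R ⊓ centralizer ((A ⊓ N0 : Subgroup G) : Set G) := by
      refine ⟨hout v, mem_centralizer_iff.2 fun a ha => ?_⟩
      have hfix : π ⟨a, hN0 ha.2⟩ v = v := (hS.le (hinner ⟨a, hN0 ha.2⟩ ha.2)).2.1
      have h := hact ⟨a, hN0 ha.2⟩ (hout v)
      rw [houtv, show act ⟨a, hN0 ha.2⟩ v = π ⟨a, hN0 ha.2⟩ v from rfl, hfix] at h
      have h3 := hAexp a ha.1
      have hd : vec (a * out v * a⁻¹ * (out v)⁻¹) = 0 := by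
        have h1 := hmul (x := a * out v * a⁻¹ * (out v)⁻¹)
          (mul_mem (hcJ ⟨a, hN0 ha.2⟩ (hout v)) (inv_mem (hout v))) (hout v)
        rw [inv_mul_cancel_right, h, houtv] at h1
        exact right_eq_add.1 h1
      rcases hcases (mul_mem (hcJ ⟨a, hN0 ha.2⟩ (hout v)) (inv_mem (hout v))) hd with e | e
      · exact mul_inv_eq_iff_eq_mul.1 (mul_inv_eq_one.1 e)
      · exfalso
        have e1 : a * out v * a⁻¹ = r * out v := mul_inv_eq_iff_eq_mul.1 e
        have hra : a * r * a⁻¹ = r := hrc ⟨a, hN0 ha.2⟩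
        have st : ∀ y, a * (r * y) * a⁻¹ = r * (a * y * a⁻¹) := fun y => by
          calc a * (r * y) * a⁻¹ = (a * r * a⁻¹) * (a * y * a⁻¹) := by group
            _ = _ := by rw [hra]
        have e3 : a ^ 3 * out v * (a ^ 3)⁻¹ = r * r * r * out v := by
          calc a ^ 3 * out v * (a ^ 3)⁻¹ = a * (a * (a * out v * a⁻¹) * a⁻¹) * a⁻¹ := by
                simp only [pow_succ, pow_zero, one_mul]; group
            _ = r * (r * (r * out v)) := by rw [e1, st, e1, st, st, e1]
            _ = _ := by simp only [mul_assoc]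
        rw [h3, one_mul, inv_one, mul_one, show r * r = 1 by rw [← pow_two, ← hr, pow_orderOf_eq_one], one_mul] at e3
        have hr1 : r = 1 := right_eq_mul.1 e3
        rw [hr1, orderOf_one] at hr
        exact absurd hr (by norm_num)
    have h := hAR hmem
    refine hv0 ?_
    rw [← houtv v]
    obtain ⟨k, hk⟩ := (Submonoid.mem_powers_iff _ _).1 (mem_powers_iff_mem_zpowers.2 h)
    rw [← hk]
    have hk2 : r ^ k = 1 ∨ r ^ k = r := by
      rw [← pow_mod_orderOf, hr]
      rcases Nat.mod_two_eq_zero_or_one k with e | e <;> simp [e]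
    rcases hk2 with e | e <;> rw [e]
    · rw [hvec (hR0 (one_mem _))]; exact M1.vec_one
    · exact hvz
  have hiso : ∀ t ∈ π.range, IsIso true false t := by
    rintro _ ⟨c, rfl⟩
    refine ⟨fun v w => ?_, fun v => ?_, fun h => absurd h (by decide)⟩
    · show act c (v + w) = act c v + act c w
      conv_lhs => rw [← houtv v, ← houtv w, ← hmul (hout v) (hout w), ← hact c (mul_mem (hout v) (hout w))]
      rw [← hmul (hcJ c (hout v)) (hcJ c (hout w))]
      congr 1; group
    · show qe true (act c v) = qe true v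
      rw [← he]
      conv_rhs => rw [← houtv v]
      apply zb_ne (z := r) (fun e => by rw [e, orderOf_one] at hr; exact absurd hr (by norm_num))
      rw [← hsq (hout v), show act c v = vec ((c : G) * out v * (c : G)⁻¹) from rfl, ← hsq (hcJ c (hout v))]
      have e' : (c : G) * out v * (c : G)⁻¹ * ((c : G) * out v * (c : G)⁻¹) =
          (c : G) * (out v * out v) * (c : G)⁻¹ := by group
      rw [e', hsq (hout v)]
      cases qe M1.e (vec (out v))
      · simp [zb_false]
      · rw [zb_true, hrc]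
  refine ⟨{
    vec := vec
    π := π
    I := M1.π.range
    himg := ⟨hnat, hIle, hiso, fun t ht htG => ?_⟩
    inner := hinner
    vec_mul := hmul
    vec_r := hvz
    vec_cases := hcases
    surj := fun v => ⟨out v, hout v, houtv v⟩
    vec_conj := fun c {x} hx => hact c hx
    ker := hker
    sq := fun {x} hx => he ▸ hsq hx }⟩
  refine semi_of_normalize hnat (hiso t ht) (fun g hg => ?_) htG
  obtain ⟨c, rfl⟩ := ht
  obtain ⟨d, rfl⟩ := hg
  have hcd : (c : G)⁻¹ * ((d : ↥N0) : G) * c ∈ N0 := by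
    have := hnorm _ (inv_mem c.2) _ (d : ↥N0).2
    rwa [inv_inv] at this
  refine ⟨⟨⟨_, hcd⟩, mem_ctop _⟩, ?_⟩
  rw [← hagree ⟨_, hN0 hcd⟩ hcd, show (⟨(c : G)⁻¹ * ((d : ↥N0) : G) * c, hN0 hcd⟩ : ↥N) = c⁻¹ * inc d.1 * c from rfl,
    map_mul, map_mul, map_inv, hagree (inc d.1) d.1.2]
  rfl

set_option maxHeartbeats 800000 in
/-- The local data modulo the involution. -/
theorem exists_frame {r : G} (hr : orderOf r = 2) (R : Subgroup G) (hRc : Nat.card ↥R = 512)
    (hZR : (center ↥R).map R.subtype = zpowers r) (N0 : Subgroup G) (hR0 : R ≤ N0)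
    (hN0 : N0 ≤ centralizer ({r} : Set G) ⊓ normalizer (R : Set G))
    (T : Act r R (centralizer ({r} : Set G) ⊓ normalizer (R : Set G)) N0)
    (A : Subgroup G) (hAC : A ≤ centralizer ({r} : Set G)) (hAN : A ≤ normalizer (R : Set G))
    (hAcomm : IsMulCommutative ↥A) (hAexp : ∀ a ∈ A, a ^ 3 = 1)
    (hA : (Nat.card ↥A = 27 ∧ ∀ n ∈ centralizer ({r} : Set G) ⊓ normalizer (R : Set G),
      (∀ m ∈ N0, n * m * n⁻¹ * m⁻¹ ∈ R) → n ∈ R) ∨ Nat.card ↥A = 81)
    (hsig : ∀ K : Subgroup G, K ≤ centralizer ({r} : Set G) → (Nat.card ↥K).Coprime 3 →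
      A ≤ normalizer (K : Set G) → K ≤ R) :
    ∃ (Y : Type u) (_ : Group Y) (_ : Finite Y) (q : ↥(centralizer ({r} : Set G)) →* Y) (D : Frame Y),
      Function.Surjective q ∧ (∀ a b : ↥(centralizer ({r} : Set G)), q a = q b → (b : G) = a ∨ (b : G) = a * r) ∧
      (∀ c : ↥(centralizer ({r} : Set G)), q c ∈ D.R ↔ (c : G) ∈ R) ∧
      (∀ c : ↥(centralizer ({r} : Set G)), q c ∈ D.N ↔ (c : G) ∈ centralizer ({r} : Set G) ⊓ normalizer (R : Set G)) ∧
      D.A = (A.subgroupOf (centralizer ({r} : Set G))).map q ∧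
      (∀ a b : ↥(centralizer ({r} : Set G)), (a : G) ∈ A → (b : G) ^ 3 = 1 → q a = q b → (b : G) = a) ∧
      Nat.card ↥D.A = Nat.card ↥A ∧ D.I = T.I ∧
      (∀ c : ↥(centralizer ({r} : Set G)), (c : G) ∈ R → D.vec (q c) = T.vec c) ∧
      ∀ (c : ↥(centralizer ({r} : Set G))) (hc : q c ∈ D.N) (hc' : (c : G) ∈ centralizer ({r} : Set G) ⊓ normalizer (R : Set G)),
        D.img ⟨q c, hc⟩ = T.π ⟨c, hc'⟩ := by
  classical
  let C := centralizer ({r} : Set G)
  have hrR : r ∈ R := map_subtype_le _ (hZR ▸ mem_zpowers r : r ∈ (center ↥R).map R.subtype)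
  have hR' : R ≤ C ⊓ normalizer (R : Set G) := hR0.trans hN0
  have hrC : r ∈ C := (hR' hrR).1
  let N := C ⊓ normalizer (R : Set G)
  let rC : ↥C := ⟨r, hrC⟩
  haveI hZn : (zpowers rC).Normal := by
    refine ⟨fun w hw u => ?_⟩
    have hc : rC ∈ center ↥C :=
      mem_center_iff.2 fun u => Subtype.ext (mem_centralizer_singleton_iff.1 u.2)
    rw [mem_center_iff.1 ((zpowers_le.2 hc) hw) u, mul_inv_cancel_right]
    exact hw
  let q : ↥C →* ↥C ⧸ zpowers rC := QuotientGroup.mk' _
  have hqs : Function.Surjective q := QuotientGroup.mk'_surjective _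
  have hrr : r * r = 1 := by rw [← pow_two, ← hr, pow_orderOf_eq_one]
  have hpow : ∀ {w : ↥C}, w ∈ zpowers rC → (w : G) = 1 ∨ (w : G) = r := by
    intro w hw
    obtain ⟨k, rfl⟩ := (Submonoid.mem_powers_iff _ _).1 (mem_powers_iff_mem_zpowers.2 hw)
    rw [SubgroupClass.coe_pow, ← pow_mod_orderOf, hr]
    rcases Nat.mod_two_eq_zero_or_one k with e | e <;> simp [e, rC]
  have heq : ∀ {a b : ↥C}, q a = q b → (b : G) = a ∨ (b : G) = a * r := by
    intro a b e
    rcases hpow (QuotientGroup.eq.1 e : a⁻¹ * b ∈ zpowers rC) with h | h <;> push_cast at h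
    · left; rw [← mul_inv_cancel_left (a : G) b, h, mul_one]
    · right; rw [← mul_inv_cancel_left (a : G) b, h]
  -- membership in images of subgroups containing the involution
  have hmemq : ∀ {S : Subgroup G}, r ∈ S → ∀ c : ↥C, q c ∈ (S.subgroupOf C).map q ↔ (c : G) ∈ S := by
    intro S hS c
    refine ⟨?_, fun h => ⟨c, h, rfl⟩⟩
    rintro ⟨s, hs, e⟩
    rcases heq e with h | h <;> rw [h]
    · exact hs
    · exact mul_mem hs hS
  have hrN : r ∈ N := hR' hrR
  set RY := (R.subgroupOf C).map q with hRY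
  set NY := (N.subgroupOf C).map q with hNY
  set AY := (A.subgroupOf C).map q with hAY
  -- representatives
  let rep : ↥C ⧸ zpowers rC → ↥C := Quotient.out
  have hrep : ∀ y, q (rep y) = y := QuotientGroup.out_eq'
  have hvinv : ∀ {a b : ↥C}, (a : G) ∈ R → q a = q b → T.vec b = T.vec a := by
    intro a b ha e
    rcases heq e with h | h <;> rw [h]
    rw [T.vec_mul ha hrR, T.vec_r, add_zero]
  have hrepN : ∀ y : ↥NY, ((rep y : ↥C) : G) ∈ N := fun y => (hmemq hrN _).1 (by rw [hrep]; exact y.2)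
  have hrepR : ∀ {y}, y ∈ RY → ((rep y : ↥C) : G) ∈ R := fun {y} hy => (hmemq hrR _).1 (by rw [hrep]; exact hy)
  have hπr : T.π ⟨r, hrN⟩ = 1 := (T.ker _).2 hrR
  have hπ : ∀ {a b : ↥C} (ha : (a : G) ∈ N) (hb : (b : G) ∈ N), q a = q b →
      T.π ⟨a, ha⟩ = T.π ⟨b, hb⟩ := by
    intro a b ha hb e
    rcases heq e with h | h
    · exact congrArg T.π (Subtype.ext h.symm)
    · rw [show (⟨(b : G), hb⟩ : ↥N) = ⟨a, ha⟩ * ⟨r, hrN⟩ from Subtype.ext h, map_mul, hπr, mul_one]
  let img : ↥NY →* Equiv.Perm W8 := MonoidHom.mk' (fun y => T.π ⟨(rep y : ↥C), hrepN y⟩) fun y z => by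
    rw [← map_mul]
    exact hπ (a := rep ↑(y * z)) (b := rep y * rep z) _ (mul_mem (hrepN y) (hrepN z))
      (by rw [map_mul, hrep, hrep, hrep]; rfl)
  have himg : ∀ (c : ↥C) (hc : (c : G) ∈ N), img ⟨q c, (hmemq hrN c).2 hc⟩ = T.π ⟨c, hc⟩ := fun c hc =>
    hπ _ hc (hrep _)
  have hrange : img.range = T.π.range := by
    refine le_antisymm ?_ ?_
    · rintro _ ⟨y, rfl⟩; exact ⟨_, rfl⟩
    · rintro _ ⟨n, rfl⟩; exact ⟨_, himg ⟨n, n.2.1⟩ n.2⟩
  -- the three-subgroup in the quotient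
  have hr3 : ∀ {a : G}, a ∈ A → (a * r) ^ 3 = r := fun {a} ha => by
    rw [(show Commute a r from mem_centralizer_singleton_iff.1 (hAC ha)).mul_pow, hAexp a ha, one_mul,
      pow_succ, pow_two, hrr, one_mul]
  have hr1 : r ≠ 1 := fun e => by rw [e, orderOf_one] at hr; exact absurd hr (by norm_num)
  have hAeq : ∀ {a : ↥C}, (a : G) ∈ A → ∀ {b : ↥C}, (b : G) ^ 3 = 1 → q a = q b → (b : G) = a := by
    intro a ha b hb e
    refine (heq e).resolve_right fun h => hr1 ?_
    rw [← hr3 ha, ← h, hb]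
  have hAc : Nat.card ↥AY = Nat.card ↥A := by
    rw [← Nat.card_congr (subgroupOfEquivOfLe hAC).toEquiv]
    refine (Nat.card_congr (Equiv.ofBijective (fun a : ↥(A.subgroupOf C) => (⟨q a, a, a.2, rfl⟩ : ↥AY))
      ⟨fun a b e => Subtype.ext (Subtype.ext (hAeq a.2 (hAexp _ b.2) (congrArg Subtype.val e)).symm), ?_⟩)).symm
    rintro ⟨_, a, ha, rfl⟩
    exact ⟨⟨a, ha⟩, rfl⟩
  let D : Frame (↥C ⧸ zpowers rC) :=
    { R := RY
      N := NY
      A := AY
      vec := fun y => T.vec (rep y : ↥C)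
      img := img
      I := T.I
      himg := hrange ▸ T.himg
      norm := by
        ext y
        obtain ⟨c, rfl⟩ := hqs y
        rw [hmemq hrN]
        constructor
        · intro hy
          refine ⟨c.2, mem_normalizer_fintype fun x hx => ?_⟩
          have h := (mem_normalizer_iff.1 hy (q ⟨x, (hR' hx).1⟩)).1 ((hmemq hrR _).2 hx)
          rw [← map_inv, ← map_mul, ← map_mul] at h
          exact (hmemq hrR _).1 h
        · intro hc
          refine mem_normalizer_fintype fun z hz => ?_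
          obtain ⟨x, hx, rfl⟩ := hz
          show q c * q x * (q c)⁻¹ ∈ RY
          rw [← map_inv, ← map_mul, ← map_mul]
          exact (hmemq hrR _).2 ((mem_normalizer_iff.1 hc.2 (x : G)).1 hx)
      vec_mul := fun {x y} hx hy => by
        rw [← T.vec_mul (hrepR hx) (hrepR hy)]
        exact hvinv (a := rep x * rep y) (mul_mem (hrepR hx) (hrepR hy)) (by rw [map_mul, hrep, hrep, hrep])
      vec_inj := fun {x} hx h0 => by
        rw [← hrep x]
        refine (QuotientGroup.eq_one_iff _).2 ?_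
        rcases T.vec_cases (hrepR hx) h0 with e | e
        · rw [show rep x = 1 from Subtype.ext e]; exact one_mem _
        · rw [show rep x = rC from Subtype.ext e]; exact mem_zpowers _
      surj := fun v => by
        obtain ⟨x, hx, rfl⟩ := T.surj v
        exact ⟨q ⟨x, (hR' hx).1⟩, (hmemq hrR _).2 hx, hvinv (a := ⟨x, (hR' hx).1⟩) hx (hrep _).symm⟩
      ker := fun y => by
        show T.π _ = 1 ↔ (y : ↥C ⧸ zpowers rC) ∈ RY
        exact (T.ker _).trans ((hmemq hrR (rep (y : ↥C ⧸ zpowers rC))).symm.trans (by rw [hrep]))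
      vec_conj := fun y {x} hx => by
        show _ = T.π _ _
        rw [← T.vec_conj _ (hrepR hx)]
        refine hvinv (a := rep (y : ↥C ⧸ zpowers rC) * rep x * (rep (y : ↥C ⧸ zpowers rC))⁻¹) ?_ ?_
        · exact (mem_normalizer_iff.1 (hrepN y).2 _).1 (hrepR hx)
        · rw [map_mul, map_mul, map_inv, hrep, hrep, hrep]
      hAN := map_mono fun a ha => mem_subgroupOf.2 ⟨a.2, hAN ha⟩
      hA := by
        rw [hAc]
        rcases hA with ⟨h27, hnc⟩ | h81
        · refine Or.inr ⟨h27, fun hs => ?_⟩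
          rw [hrange] at hs
          obtain ⟨n, hn⟩ := hs
          have hmem : (n : G) ∈ R := hnc n n.2 fun m hm => by
            refine (T.ker (n * ⟨m, hN0 hm⟩ * n⁻¹ * (⟨m, hN0 hm⟩ : ↥N)⁻¹)).1 ?_
            have hcm : T.π ⟨m, hN0 hm⟩ * sigP = sigP * T.π ⟨m, hN0 hm⟩ :=
              Equiv.ext fun v => (T.himg.inat.le (T.inner _ hm)).sig rfl v
            rw [map_mul, map_mul, map_mul, map_inv, map_inv, hn, ← hcm]
            group
          refine T.himg.inat.sigP_notMem ?_
          rw [← hn, (T.ker n).2 hmem]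
          exact one_mem _
        · exact Or.inl h81
      hAcomm := by
        rintro _ ⟨a, ha, rfl⟩ _ ⟨b, hb, rfl⟩
        have h : (a : G) * b = b * a := congrArg (fun z : ↥A => (z : G))
          (hAcomm.1.comm ⟨(a : G), ha⟩ ⟨(b : G), hb⟩)
        exact (show Commute a b from Subtype.ext h).map q
      hAexp := by
        rintro _ ⟨a, ha, rfl⟩
        rw [← map_pow, show a ^ 3 = 1 from Subtype.ext (hAexp _ ha), map_one]
      hAnorm := fun y hy => by
        obtain ⟨c, rfl⟩ := hqs y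
        rw [hmemq hrN]
        refine ⟨c.2, mem_normalizer_fintype fun x hx => ?_⟩
        have hcA : ∀ a ∈ A, (c : G) * a * (c : G)⁻¹ ∈ A := fun a ha => by
          have h := (mem_normalizer_iff.1 hy (q ⟨a, hAC ha⟩)).1 ⟨_, ha, rfl⟩
          rw [← map_inv, ← map_mul, ← map_mul] at h
          obtain ⟨b, hb, e⟩ := h
          have := hAeq hb (b := c * ⟨a, hAC ha⟩ * c⁻¹) (by
            push_cast
            rw [conj_pow, hAexp a ha, mul_one, mul_inv_cancel]) e
          push_cast at this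
          rw [this]; exact hb
        -- the conjugate of the core is a signaliser
        have hcA' : A ≤ normalizer ((R.map (MulAut.conj (c : G)).toMonoidHom : Subgroup G) : Set G) := fun a ha => by
          refine mem_normalizer_fintype ?_
          rintro _ ⟨x', hx', rfl⟩
          have hb : (c : G)⁻¹ * a * c ∈ A := by
            have hi : A.map (MulAut.conj (c : G)).toMonoidHom = A := by
              refine eq_of_le_of_card_ge (by rintro _ ⟨b, hb, rfl⟩; exact hcA b hb) ?_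
              exact (Nat.card_congr (equivMapOfInjective A _ (MulAut.conj (c : G)).injective).toEquiv).le
            obtain ⟨b, hb, e⟩ := (hi.symm ▸ ha : a ∈ A.map (MulAut.conj (c : G)).toMonoidHom)
            rw [← e]
            simpa [mul_assoc] using hb
          refine ⟨(c : G)⁻¹ * a * c * x' * ((c : G)⁻¹ * a * c)⁻¹, (mem_normalizer_iff.1 (hAN hb) x').1 hx', ?_⟩
          simp only [MulEquiv.coe_toMonoidHom, MulAut.conj_apply]
          group
        refine hsig (R.map (MulAut.conj (c : G)).toMonoidHom) ?_ ?_ hcA' ⟨x, hx, rfl⟩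
        · rintro _ ⟨x', hx', rfl⟩
          exact mul_mem (mul_mem c.2 (hR' hx').1) (inv_mem c.2)
        · rw [← Nat.card_congr (equivMapOfInjective R _ (MulAut.conj (c : G)).injective).toEquiv, hRc]
          norm_num }
  refine ⟨↥C ⧸ zpowers rC, inferInstance, inferInstance, q, D, hqs, fun a b e => heq e, fun c => hmemq hrR c,
    fun c => hmemq hrN c, rfl, fun a b ha hb e => hAeq ha hb e, hAc, rfl,
    fun c hc => hvinv hc (hrep _).symm, fun c _ hc' => himg c hc'⟩

/-- The centraliser of the involution normalises the extraspecial group: given the image of its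
normaliser, an elementary three-subgroup with small signalisers and the centralisers of its elements. -/
theorem centralizer_le_normalizer {r : G} (hr : orderOf r = 2) (R : Subgroup G)
    (hR : Cfsg.IsExtraspecial 2 ↥R) (hRc : Nat.card ↥R = 512)
    (hZR : (center ↥R).map R.subtype = zpowers r) (hCR : centralizer (R : Set G) = zpowers r)
    {F : Type*} [Field F] [Fintype F] (hF : Fintype.card F = 3) (N0 : Subgroup G) (hR0 : R ≤ N0)
    (hN0 : N0 ≤ centralizer ({r} : Set G) ⊓ normalizer (R : Set G))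
    (hnorm : ∀ n ∈ centralizer ({r} : Set G) ⊓ normalizer (R : Set G), ∀ m ∈ N0, n * m * n⁻¹ ∈ N0)
    (ψ : ↥N0 →* Cfsg.PSp 2 F) (hψs : Function.Surjective ψ) (hψk : ∀ m, ψ m = 1 ↔ (m : G) ∈ R)
    (A : Subgroup G) (hAC : A ≤ centralizer ({r} : Set G)) (hAN : A ≤ normalizer (R : Set G))
    (hAcomm : IsMulCommutative ↥A) (hAexp : ∀ a ∈ A, a ^ 3 = 1)
    (hA : (Nat.card ↥A = 27 ∧ ∀ n ∈ centralizer ({r} : Set G) ⊓ normalizer (R : Set G),
      (∀ m ∈ N0, n * m * n⁻¹ * m⁻¹ ∈ R) → n ∈ R) ∨ Nat.card ↥A = 81)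
    (hAR : R ⊓ centralizer ((A ⊓ N0 : Subgroup G) : Set G) ≤ zpowers r)
    (hsig : ∀ K : Subgroup G, K ≤ centralizer ({r} : Set G) → (Nat.card ↥K).Coprime 3 →
      A ≤ normalizer (K : Set G) → K ≤ R)
    (hcent : ∀ a ∈ A, a ≠ 1 → centralizer ({a} : Set G) ⊓ centralizer ({r} : Set G) ≤ normalizer (R : Set G)) :
    centralizer ({r} : Set G) ≤ normalizer (R : Set G) := by
  classical
  obtain ⟨T⟩ := exists_act hr hR hRc hZR hCR hF hR0 hN0 hnorm ψ hψs hψk A hAexp hAR
  obtain ⟨Y, _, _, q, F0, hqs, -, -, hN, hAY, hAeq, -, -, -, -⟩ :=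
    exists_frame hr R hRc hZR N0 hR0 hN0 T A hAC hAN hAcomm hAexp hA hsig
  let D : Setting Y :=
    { toFrame := F0
      hAcent := fun a' ha' ha1 y hy => by
        rw [hAY] at ha'
        obtain ⟨a, ha, rfl⟩ := ha'
        obtain ⟨c, rfl⟩ := hqs y
        rw [hN]
        refine ⟨c.2, hcent a ha (fun e => ha1 (by rw [show a = 1 from Subtype.ext e, map_one]))
          ⟨mem_centralizer_singleton_iff.2 ?_, c.2⟩⟩
        rw [mem_centralizer_singleton_iff] at hy
        have h := hAeq a (c * a * c⁻¹) ha (by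
          push_cast
          rw [conj_pow, hAexp (a : G) ha, mul_one, mul_inv_cancel]) (by
            rw [map_mul, map_mul, map_inv, hy, mul_inv_cancel_right])
        push_cast at h
        exact mul_inv_eq_iff_eq_mul.1 h }
  intro c hc
  have h : q ⟨c, hc⟩ ∈ D.N := by rw [D.eq_top]; exact mem_top _
  exact ((hN _).1 h).2

end Cfsg.Agent.UThreeLocal.Two
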