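import Cfsg.Agent.Lib.UThreeLocal.Two.Closed
import Cfsg.Agent.S0058

/-!
# The local subgroup is the whole group
-/

set_option autoImplicit false
set_option linter.unusedSectionVars false
set_option linter.style.haveILetI false

namespace Cfsg.Agent.UThreeLocal.Two

open Subgroup
open Cfsg.Agent.ThreeTransp.U62Cent (W8)
open Cfsg.Agent.ThreeTransp.U62Cent.W8 (qe bb)
open Cfsg.Agent.ThreeTransp.U62Cent (GN sigP)

universe u

theorem bb_basis_inj : ∀ v : W8, (∀ w ∈ Cfsg.Agent.ThreeTransp.U62Cent.W8.basis, bb w v = false) → v = 0 := by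
  decide +kernel

/-- A subgroup of index two of the space is an orthogonal space. -/
theorem exists_perp (f : W8 → Bool) (hadd : ∀ v w, f (v + w) = xor (f v) (f w)) (hf : ∃ v, f v = true) :
    ∃ v : W8, v ≠ 0 ∧ ∀ w, bb w v = f w := by
  open Cfsg.Agent.ThreeTransp.U62Cent.W8 in
  let Ψ : W8 → (Fin 8 → Bool) := fun v i => bb (e i) v
  have hmem : ∀ i : Fin 8, Cfsg.Agent.ThreeTransp.U62Cent.W8.e i ∈ Cfsg.Agent.ThreeTransp.U62Cent.W8.basis :=
    fun i => List.mem_map.2 ⟨i, List.mem_range.2 i.2, rfl⟩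
  have hinj : Function.Injective Ψ := by
    intro a b h
    refine Cfsg.Agent.ThreeTransp.U62Cent.W8.eq_of_add (bb_basis_inj _ fun w hw => ?_)
    obtain ⟨i, hi, rfl⟩ := List.mem_map.1 hw
    rw [Cfsg.Agent.ThreeTransp.U62Cent.W8.bb_add_right]
    have h' : bb _ a = bb _ b := congrFun h ⟨i, List.mem_range.1 hi⟩
    simp only at h'
    rw [h', Bool.xor_self]
  have hsur : Function.Surjective Ψ := ((Nat.bijective_iff_injective_and_card Ψ).2 ⟨hinj, by
    rw [show Nat.card W8 = 256 from Nat.card_fin 256, Nat.card_fun]; simp⟩).2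
  obtain ⟨v, hv⟩ := hsur fun i => f (Cfsg.Agent.ThreeTransp.U62Cent.W8.e i)
  have h0 : ∀ g : W8 → Bool, (∀ a b, g (a + b) = xor (g a) (g b)) → g 0 = false := fun g hg => by
    have := hg 0 0
    rw [add_zero] at this
    simpa using this
  have hall : ∀ w, bb w v = f w := by
    let a : W8 → W8 := fun w => if bb w v = true then Cfsg.Agent.ThreeTransp.U62Cent.W8.mk 1 else 0
    let b : W8 → W8 := fun w => if f w = true then Cfsg.Agent.ThreeTransp.U62Cent.W8.mk 1 else 0
    intro w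
    have hab : a w = b w := by
      refine Cfsg.Agent.ThreeTransp.U62Cent.W8.basis_add w (fun p q => ?_) (fun p q => ?_) fun z hz => ?_
      · simp only [a, Cfsg.Agent.ThreeTransp.U62Cent.W8.bb_add_left]
        cases bb p v <;> cases bb q v <;> simp [Cfsg.Agent.ThreeTransp.U62Cent.W8.add_self]
      · simp only [b, hadd]
        cases f p <;> cases f q <;> simp [Cfsg.Agent.ThreeTransp.U62Cent.W8.add_self]
      · obtain ⟨i, hi, rfl⟩ := List.mem_map.1 hz
        simp only [a, b]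
        rw [show bb _ v = f _ from congrFun hv ⟨i, List.mem_range.1 hi⟩]
    have hne : Cfsg.Agent.ThreeTransp.U62Cent.W8.mk 1 ≠ 0 := reps.2.2.1
    simp only [a, b] at hab
    revert hab
    cases bb w v <;> cases f w <;> simp [hne, Ne.symm hne]
  refine ⟨v, fun e => ?_, hall⟩
  obtain ⟨w, hw⟩ := hf
  rw [← hall, e, Cfsg.Agent.ThreeTransp.U62Cent.W8.bb_zero_right] at hw
  exact absurd hw (by decide)

namespace Frame

variable {Y : Type u} [Group Y] [Finite Y] (D : Frame Y)

/-- What the induction on the centralisers of subgroups of the module uses. -/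
structure Control : Prop where
  weak : D.WeakClosed
  strong : ∀ {x g : Y}, x ∈ D.R → g * x * g⁻¹ ∈ D.N → g * x * g⁻¹ ∈ D.R
  hyp : ∀ {v : W8}, v ≠ 0 → ∃ T : Set Y, T ⊆ D.R ∧ (∀ x ∈ T, bb (D.vec x) v = false) ∧
    centralizer T ≤ D.N
  ref : ∀ {S : Subgroup Y}, S ≤ D.R → Nat.card ↥S = 64 → ∀ {t : Equiv.Perm W8}, t ∈ D.img.range →
    t ^ 3 = 1 → t ≠ 1 → (∀ s ∈ S, t (D.vec s) = D.vec s) → centralizer (S : Set Y) ≤ D.N

theorem mem_I_of_odd {t : Equiv.Perm W8} (ht : t ∈ D.img.range) {p : ℕ} (hp : Odd p) (h3 : ¬ 3 ∣ p)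
    (htp : t ^ p = 1) : t ∈ D.I := by
  refine D.himg.mem_of_pow ?_ h3 htp
  by_contra hG
  obtain ⟨m, rfl⟩ := hp
  rw [pow_succ, pow_mul, pow_two] at htp
  exact hG (eq_inv_of_mul_eq_one_right htp ▸ inv_mem (pow_mem (D.himg.two ht ht hG hG) m))

/-- The core step: a centraliser of a subgroup of the module lies in the local subgroup. -/
theorem cent_le_of (C : D.Control) : ∀ S : Subgroup Y, S ≤ D.R → centralizer (S : Set Y) ≤ D.N := by
  intro S
  induction hn : 256 - Nat.card ↥S using Nat.strong_induction_on generalizing S with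
  | _ n ih =>
    intro hS
    have hScard : Nat.card ↥S ≤ 256 := D.card_R ▸ Subgroup.card_le_of_le hS
    -- larger subgroups are done
    have big : ∀ x ∈ D.R, x ∉ S → ∀ c : Y, c ∈ centralizer (S : Set Y) → Commute c x → c ∈ D.N := by
      intro x hx hxS c hc hcx
      set S' := S ⊔ zpowers x with hS'
      have hle : S' ≤ D.R := sup_le hS (zpowers_le.2 hx)
      have hlt : Nat.card ↥S < Nat.card ↥S' := by
        refine lt_of_le_of_ne (Subgroup.card_le_of_le le_sup_left) fun e => hxS ?_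
        exact (eq_of_le_of_card_ge (le_sup_left : S ≤ S') e.ge).symm ▸ mem_sup_right (mem_zpowers x)
      have hS'c : Nat.card ↥S' ≤ 256 := D.card_R ▸ Subgroup.card_le_of_le hle
      refine ih (256 - Nat.card ↥S') (by omega) S' rfl hle ?_
      have hsub : S' ≤ centralizer ({c} : Set Y) := sup_le
        (fun s hs => mem_centralizer_singleton_iff.2 (mem_centralizer_iff.1 hc s hs))
        (zpowers_le.2 (mem_centralizer_singleton_iff.2 hcx.symm.eq))
      exact mem_centralizer_iff.2 fun s hs => mem_centralizer_singleton_iff.1 (hsub hs)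
    have hRc : ∀ r ∈ D.R, r ∈ centralizer (S : Set Y) := fun r hr =>
      mem_centralizer_iff.2 fun s hs => (D.comm (hS hs) hr).eq
    -- a centraliser modulo `S` lies in the local subgroup
    have mod : ∀ x ∈ D.R, x ∉ S → ∀ c : Y, c ∈ centralizer (S : Set Y) →
        x * (c * x * c⁻¹) ∈ S → c ∈ D.N := by
      intro x hx hxS c hc hcx
      have hy : c * x * c⁻¹ ∈ D.R := by
        have := mul_mem hx (hS hcx)
        rwa [← mul_assoc, D.sq hx, one_mul] at this
      obtain ⟨h, hhS, hhy, hhc⟩ := D.fusion_cent_of C.weak hS hx hy hc rfl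
      have hyS : c * x * c⁻¹ ∉ S := fun h' => hxS (by
        have := mul_mem hcx h'
        rwa [mul_assoc, D.sq hy, mul_one] at this)
      simpa using mul_mem (inv_mem (big _ hy hyS h hhS hhy)) hhc
    by_cases htop : ∀ x ∈ D.R, x ∈ S
    · intro c hc
      exact D.norm ▸ mem_normalizer_fintype fun r hr => by
        show c * r * c⁻¹ ∈ D.R
        rw [← mem_centralizer_iff.1 hc r (htop r hr), mul_inv_cancel_right]
        exact hr
    push Not at htop
    obtain ⟨x₀, hx₀, hx₀S⟩ := htop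
    by_cases htwo : ∀ w ∈ D.R, w ∈ S ∨ x₀ * w ∈ S
    · -- a hyperplane
      classical
      let f : W8 → Bool := fun v => if D.lift v ∈ S then false else true
      have hlift : ∀ v w, D.lift (v + w) = D.lift v * D.lift w := fun v w =>
        D.vec_ext (D.lift_mem _) (mul_mem (D.lift_mem _) (D.lift_mem _))
          (by rw [D.vec_lift, D.vec_mul (D.lift_mem _) (D.lift_mem _), D.vec_lift, D.vec_lift])
      have hadd : ∀ v w, f (v + w) = xor (f v) (f w) := by
        intro v w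
        simp only [f, hlift]
        by_cases hv : D.lift v ∈ S
        · rw [if_pos hv, Bool.false_xor]
          exact if_congr (mul_mem_cancel_left hv) rfl rfl
        · by_cases hw : D.lift w ∈ S
          · rw [if_pos hw, if_neg hv, if_neg (fun h => hv ((mul_mem_cancel_right hw).1 h))]; rfl
          · rw [if_neg hv, if_neg hw, if_pos]
            · rfl
            have h1 := (htwo _ (D.lift_mem v)).resolve_left hv
            have h2 := (htwo _ (D.lift_mem w)).resolve_left hw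
            have := mul_mem h1 h2
            rwa [(D.comm hx₀ (D.lift_mem v)).eq, mul_assoc, ← mul_assoc x₀ x₀, D.sq hx₀, one_mul] at this
      obtain ⟨v, hv0, hv⟩ := exists_perp f hadd ⟨D.vec x₀, by
        simp only [f]
        rw [if_neg]
        rwa [D.vec_ext (D.lift_mem _) hx₀ (D.vec_lift _)]⟩
      obtain ⟨T, hTR, hT, hTN⟩ := C.hyp hv0
      refine le_trans (centralizer_le fun t ht => ?_) hTN
      have h := hT t ht
      rw [hv] at h
      simp only [f, D.vec_ext (D.lift_mem _) (hTR ht) (D.vec_lift _)] at h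
      by_contra hne
      rw [if_neg (show ¬ t ∈ S from hne)] at h
      exact absurd h (by decide)
    push Not at htwo
    obtain ⟨w₁, hw₁, hw₁S, hxw₁⟩ := htwo
    intro g hg
    by_contra hgN
    -- two elements outside `S` not fused modulo `S`
    obtain ⟨x, hx, hxS, w, hw, hwS, hno⟩ : ∃ x ∈ D.R, x ∉ S ∧ ∃ w ∈ D.R, w ∉ S ∧
        ∀ m ∈ D.N, m ∈ centralizer (S : Set Y) → w * (m * x * m⁻¹) ∉ S := by
      classical
      by_contra hno
      push Not at hno
      set Cn : Subgroup Y := D.N ⊓ centralizer (S : Set Y) with hCn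
      set SR := S.subgroupOf D.R with hSR
      let Ω := ↥D.R ⧸ SR
      have hwd : ∀ (m : ↥Cn) (a b : ↥D.R), (QuotientGroup.mk a : Ω) = QuotientGroup.mk b →
          (QuotientGroup.mk ⟨(m : Y) * a * (m : Y)⁻¹, D.conj_R m.2.1 a.2⟩ : Ω) =
            QuotientGroup.mk ⟨(m : Y) * b * (m : Y)⁻¹, D.conj_R m.2.1 b.2⟩ := by
        intro m a b e
        rw [QuotientGroup.eq, mem_subgroupOf] at e ⊢
        push_cast at e ⊢
        rw [show ((m : Y) * a * (m : Y)⁻¹)⁻¹ * ((m : Y) * b * (m : Y)⁻¹) =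
          (m : Y) * ((a : Y)⁻¹ * b) * (m : Y)⁻¹ by group, ← mem_centralizer_iff.1 m.2.2 _ e,
          mul_inv_cancel_right]
        exact e
      letI : MulAction ↥Cn Ω :=
        { smul := fun m q => Quotient.liftOn' q
            (fun a => (QuotientGroup.mk ⟨(m : Y) * a * (m : Y)⁻¹, D.conj_R m.2.1 a.2⟩ : Ω))
            fun a b e => hwd m a b (Quotient.sound' e)
          one_smul := fun q => by
            induction q using QuotientGroup.induction_on with
            | H a => exact congrArg QuotientGroup.mk (Subtype.ext (show (1 : Y) * a * (1 : Y)⁻¹ = a by group))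
          mul_smul := fun m m' q => by
            induction q using QuotientGroup.induction_on with
            | H a => exact congrArg QuotientGroup.mk (Subtype.ext (show ((m : Y) * m') * a * ((m : Y) * m')⁻¹ =
                (m : Y) * ((m' : Y) * a * (m' : Y)⁻¹) * (m : Y)⁻¹ by group)) }
      set q₀ : Ω := QuotientGroup.mk ⟨x₀, hx₀⟩
      have horb : MulAction.orbit ↥Cn q₀ = {q : Ω | q ≠ QuotientGroup.mk 1} := by
        ext q
        induction q using QuotientGroup.induction_on with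
        | H a =>
          simp only [Set.mem_setOf_eq, ne_eq]
          constructor
          · rintro ⟨m, hm⟩ e
            have hm' : (QuotientGroup.mk ⟨(m : Y) * x₀ * (m : Y)⁻¹, D.conj_R m.2.1 hx₀⟩ : Ω) =
              QuotientGroup.mk 1 := hm.trans e
            rw [QuotientGroup.eq, mem_subgroupOf] at hm'
            push_cast at hm'
            rw [mul_one] at hm'
            have hm1 := inv_mem hm'
            rw [inv_inv] at hm1
            apply hx₀S
            have e2 := mem_centralizer_iff.1 m.2.2 _ hm1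
            have : x₀ = (m : Y) * x₀ * (m : Y)⁻¹ := by
              calc x₀ = (m : Y)⁻¹ * (((m : Y) * x₀ * (m : Y)⁻¹) * m) := by group
                _ = _ := by rw [e2]; group
            rwa [this]
          · intro ha
            have haS : (a : Y) ∉ S := fun h => ha (QuotientGroup.eq.2 (by
              rw [mem_subgroupOf]; push_cast; rw [mul_one]; exact inv_mem h))
            obtain ⟨m, hm, hmS, hfm⟩ := hno x₀ hx₀ hx₀S a a.2 haS
            refine ⟨⟨m, hm, hmS⟩, QuotientGroup.eq.2 ?_⟩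
            rw [mem_subgroupOf]
            push_cast
            rw [D.inv_eq (D.conj_R hm hx₀), (D.comm (D.conj_R hm hx₀) a.2).eq]
            exact hfm
      have hdiv : (Nat.card Ω - 1) ∣ Nat.card ↥Cn := by
        have e := (MulAction.stabilizer ↥Cn q₀).card_mul_index
        rw [MulAction.index_stabilizer, horb] at e
        rw [← e]
        refine Dvd.intro_left _ (congrArg _ ?_)
        rw [show {q : Ω | q ≠ QuotientGroup.mk 1} = ({QuotientGroup.mk 1} : Set Ω)ᶜ from rfl, Set.ncard_compl,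
          Set.ncard_singleton]
      have hindex : Nat.card ↥S * Nat.card Ω = 256 := by
        rw [← D.card_R, ← Nat.card_congr (subgroupOfEquivOfLe hS).toEquiv]
        exact SR.card_mul_index
      -- a prime order element of the image fixing `S`
      have hprime : ∀ p : ℕ, p.Prime → p ≠ 2 → p ∣ Nat.card Ω - 1 →
          ∃ t ∈ D.img.range, t ^ p = 1 ∧ t ≠ 1 ∧ ∀ s ∈ S, t (D.vec s) = D.vec s := by
        intro p hp hp2 hpd
        haveI := Fact.mk hp
        obtain ⟨m, hm⟩ := exists_prime_orderOf_dvd_card' (G := ↥Cn) p (hpd.trans hdiv)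
        refine ⟨D.img ⟨m, m.2.1⟩, D.img_mem _, ?_, ?_, fun s hs =>
          D.fix_of_commute ⟨m, m.2.1⟩ (hS hs) (mem_centralizer_iff.1 m.2.2 s hs).symm⟩
        · rw [← map_pow, show (⟨(m : Y), m.2.1⟩ : ↥D.N) ^ p = 1 from Subtype.ext (by
            have := congrArg Subtype.val (pow_orderOf_eq_one m)
            rw [hm] at this
            simpa using this), map_one]
        · intro e
          have hR := (D.ker _).1 e
          have h2 : orderOf (m : Y) ∣ 2 := orderOf_dvd_of_pow_eq_one (by rw [pow_two]; exact D.sq hR)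
          rw [Subgroup.orderOf_coe, hm] at h2
          exact hp2 ((Nat.prime_dvd_prime_iff_eq hp Nat.prime_two).1 h2)
      obtain ⟨k, hk8, hk⟩ : ∃ k ≤ 8, Nat.card Ω = 2 ^ k :=
        (Nat.dvd_prime_pow Nat.prime_two).1 (⟨Nat.card ↥S, by rw [mul_comm, hindex]; norm_num⟩ :
          Nat.card Ω ∣ 2 ^ 8)
      have hk2 : 3 ≤ Nat.card Ω := by
        have h1 : (QuotientGroup.mk 1 : Ω) ≠ QuotientGroup.mk ⟨x₀, hx₀⟩ := fun e => hx₀S (by
          simpa [QuotientGroup.eq, hSR, mem_subgroupOf] using e)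
        have h2 : (QuotientGroup.mk 1 : Ω) ≠ QuotientGroup.mk ⟨w₁, hw₁⟩ := fun e => hw₁S (by
          simpa [QuotientGroup.eq, hSR, mem_subgroupOf] using e)
        have h3 : (QuotientGroup.mk ⟨x₀, hx₀⟩ : Ω) ≠ QuotientGroup.mk ⟨w₁, hw₁⟩ := fun e => hxw₁ (by
          rw [QuotientGroup.eq, mem_subgroupOf] at e
          simpa [D.inv_eq hx₀] using e)
        have hcard3 : ({QuotientGroup.mk 1, QuotientGroup.mk ⟨x₀, hx₀⟩, QuotientGroup.mk ⟨w₁, hw₁⟩} :
            Finset Ω).card = 3 := Finset.card_eq_three.2 ⟨_, _, _, h1, h2, h3, rfl⟩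
        haveI := Fintype.ofFinite Ω
        rw [Nat.card_eq_fintype_card, ← hcard3]
        exact Finset.card_le_univ _
      have hfixS : ∀ t : Equiv.Perm W8, (∀ s ∈ S, t (D.vec s) = D.vec s) →
          Nat.card ↥S ≤ {v : W8 | t v = v}.ncard := fun t ht => by
        rw [← Nat.card_coe_set_eq]
        exact Nat.card_le_card_of_injective (fun s : ↥S => (⟨D.vec s, ht s s.2⟩ : {v : W8 | t v = v}))
          fun a b e => Subtype.ext (D.vec_ext (hS a.2) (hS b.2) (congrArg Subtype.val e))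
      have big7 : ∀ p : ℕ, p.Prime → ¬ p ∣ 25920 → ¬ p ∣ Nat.card Ω - 1 := by
        intro p hp hp' hpd
        have h2 : p ≠ 2 := fun e => hp' (e ▸ by norm_num)
        obtain ⟨t, ht, htp, ht1, -⟩ := hprime p hp h2 hpd
        haveI := Fact.mk hp
        have ho : orderOf t = p := orderOf_eq_prime htp ht1
        have htI := D.mem_I_of_odd ht (hp.odd_of_ne_two h2) (fun h => hp' (by
          rw [← (Nat.prime_dvd_prime_iff_eq Nat.prime_three hp).1 h]; norm_num)) htp
        exact hp' (D.himg.inat.card ▸ ho ▸ Subgroup.orderOf_dvd_natCard _ htI)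
      interval_cases k
      · rw [hk] at hk2; norm_num at hk2
      · rw [hk] at hk2; norm_num at hk2
      · obtain ⟨t, ht, ht3, ht1, hts⟩ := hprime 3 Nat.prime_three (by norm_num) (by rw [hk]; norm_num)
        rw [hk] at hindex
        exact hgN (C.ref hS (by omega) ht ht3 ht1 hts hg)
      · exact big7 7 (by norm_num) (by norm_num) (by rw [hk]; norm_num)
      · obtain ⟨t, ht, ht5, ht1, hts⟩ := hprime 5 (by norm_num) (by norm_num) (by rw [hk]; norm_num)
        rw [hk] at hindex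
        obtain ⟨s, hs, hs1⟩ : ∃ s ∈ S, s ≠ 1 := by
          by_contra h0
          push Not at h0
          have : S = ⊥ := (eq_bot_iff_forall _).2 h0
          rw [this, card_bot] at hindex
          norm_num at hindex
        exact ht1 (D.himg.fix_five ht ht5 (D.vec_eq_zero (hS hs) hs1) (hts s hs))
      · exact big7 31 (by norm_num) (by norm_num) (by rw [hk]; norm_num)
      · exact big7 7 (by norm_num) (by norm_num) (by rw [hk]; norm_num)
      · exact big7 127 (by norm_num) (by norm_num) (by rw [hk]; norm_num)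
      · -- the trivial subgroup: the form separates
        rw [hk] at hindex
        have hS1 : ∀ s ∈ S, s = 1 := by
          haveI : Subsingleton ↥S := (Nat.card_eq_one_iff_unique.1 (by omega)).1
          exact fun s hs => congrArg Subtype.val (Subsingleton.elim (⟨s, hs⟩ : ↥S) 1)
        have hne : ∀ v : W8, v ≠ 0 → D.lift v ∉ S := fun v hv h => hv (by
          rw [← D.vec_lift v, hS1 _ h, D.vec_one])
        obtain ⟨m, hm, -, hfm⟩ := hno _ (D.lift_mem (Cfsg.Agent.ThreeTransp.U62Cent.W8.mk 1))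
          (hne _ reps.2.2.1) _ (D.lift_mem (Cfsg.Agent.ThreeTransp.U62Cent.W8.mk 5)) (hne _ reps.2.2.2)
        have e := congrArg D.vec (eq_inv_of_mul_eq_one_left (hS1 _ hfm))
        rw [D.inv_eq (D.conj_R hm (D.lift_mem _)), D.vec_conj ⟨m, hm⟩ (D.lift_mem _), D.vec_lift,
          D.vec_lift] at e
        have hq := congrArg (qe true) e
        rw [reps.2.1, (D.himg.iso _ (D.img_mem _)).q, reps.1] at hq
        exact absurd hq (by decide)
    -- the dihedral trick
    set y := g * w * g⁻¹ with hydef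
    have hy2 : y * y = 1 := by rw [hydef, conj_mul, D.sq hw, mul_one, mul_inv_cancel]
    have hxC := hRc x hx
    have hyC : y ∈ centralizer (S : Set Y) := mul_mem (mul_mem hg (hRc w hw)) (inv_mem hg)
    set p := x * y with hpdef
    have hpC : p ∈ centralizer (S : Set Y) := mul_mem hxC hyC
    have hxi := D.inv_eq hx
    have hyi : y⁻¹ = y := inv_eq_of_mul_eq_one_right hy2
    have hxp : x * p * x⁻¹ = p⁻¹ := by rw [hpdef, mul_inv_rev x y, hxi, hyi, ← mul_assoc, D.sq hx, one_mul]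
    have hyp : y * p * y⁻¹ = p⁻¹ := by rw [hpdef, mul_inv_rev x y, hxi, hyi, mul_assoc, mul_assoc x, hy2, mul_one]
    have hshift : ∀ l : ℕ, (p ^ l)⁻¹ * x * p ^ l = x * p ^ (2 * l) := by
      intro l
      have h1 : x * p ^ l * x⁻¹ = (p ^ l)⁻¹ := by rw [← conj_pow, hxp, inv_pow]
      rw [← h1, two_mul, pow_add]
      group
    have hex : ∃ m, 0 < m ∧ p ^ m ∈ S :=
      ⟨orderOf p, orderOf_pos p, by rw [pow_orderOf_eq_one]; exact one_mem _⟩
    classical
    obtain ⟨hmpos, hmS⟩ := Nat.find_spec hex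
    set m := Nat.find hex
    rcases Nat.even_or_odd m with ⟨l, hl⟩ | ⟨l, hl⟩
    · set j := p ^ l with hjdef
      have hl0 : 0 < l := by omega
      have hjS : j ∉ S := fun h => Nat.find_min hex (show l < m by omega) ⟨hl0, h⟩
      have hjj : j * j ∈ S := by rw [hjdef, ← pow_add, ← hl]; exact hmS
      have hjC : j ∈ centralizer (S : Set Y) := pow_mem hpC l
      have hxj : x * j * x⁻¹ = j⁻¹ := by rw [hjdef, ← conj_pow, hxp, inv_pow]
      have hjN : j ∈ D.N := mod x hx hxS j hjC (by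
        rw [show x * (j * x * j⁻¹) = x * j * x * j⁻¹ by group]
        nth_rw 2 [← hxi]
        rw [hxj, ← mul_inv_rev]
        exact inv_mem hjj)
      have hconj : ∃ (c z : Y), z ∈ D.R ∧ c * z * c⁻¹ = x * j := by
        rcases Nat.even_or_odd l with ⟨i, hi⟩ | ⟨i, hi⟩
        · refine ⟨(p ^ i)⁻¹, x, hx, ?_⟩
          rw [inv_inv, hshift, hjdef, hi, two_mul]
        · refine ⟨(p ^ i)⁻¹ * g, w, hw, ?_⟩
          calc (p ^ i)⁻¹ * g * w * ((p ^ i)⁻¹ * g)⁻¹
              = (p ^ i)⁻¹ * (x * p) * p ^ i := by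
                rw [hpdef, ← mul_assoc x x, D.sq hx, one_mul, hydef]; group
            _ = (p ^ i)⁻¹ * x * p ^ i * p := by
                rw [show (p ^ i)⁻¹ * (x * p) * p ^ i = (p ^ i)⁻¹ * x * (p * p ^ i) by group,
                  (Commute.self_pow p i).eq]
                group
            _ = x * j := by rw [hshift, hjdef, hi, mul_assoc, ← pow_succ]
      obtain ⟨c, z, hz, hcz⟩ := hconj
      have hxjR : x * j ∈ D.R := hcz ▸ C.strong hz (by rw [hcz]; exact mul_mem (D.RN hx) hjN)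
      have hjR : j ∈ D.R := by
        have := mul_mem hx hxjR
        rwa [← mul_assoc, D.sq hx, one_mul] at this
      have hyj : Commute y j := by
        have h1 : y * j * y⁻¹ = j⁻¹ := by rw [hjdef, ← conj_pow, hyp, inv_pow]
        rw [D.inv_eq hjR] at h1
        exact mul_inv_eq_iff_eq_mul.1 h1
      have hyN := big j hjR hjS y hyC hyj
      have hyR : y ∈ D.R := C.strong hw hyN
      obtain ⟨h, hhS, hhy, hhg⟩ := D.fusion_cent_of C.weak hS hw hyR hg hydef.symm
      have hyS : y ∉ S := fun h' => hwS (by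
        have e2 := mem_centralizer_iff.1 hg _ h'
        have : w = y := by
          calc w = g⁻¹ * (y * g) := by rw [hydef]; group
            _ = y := by rw [e2]; group
        rwa [this])
      exact hgN (by simpa using mul_mem (inv_mem (big y hyR hyS h hhS hhy)) hhg)
    · set i := p ^ m with hidef
      have hiS : i ∈ S := hmS
      have hc : g⁻¹ * (p ^ (l + 1))⁻¹ ∈ centralizer (S : Set Y) :=
        mul_mem (inv_mem hg) (inv_mem (pow_mem hpC _))
      have hxe : (g⁻¹ * (p ^ (l + 1))⁻¹) * x * (g⁻¹ * (p ^ (l + 1))⁻¹)⁻¹ = w * i := by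
        rw [show (g⁻¹ * (p ^ (l + 1))⁻¹) * x * (g⁻¹ * (p ^ (l + 1))⁻¹)⁻¹ =
          g⁻¹ * ((p ^ (l + 1))⁻¹ * x * p ^ (l + 1)) * g by group, hshift,
          show 2 * (l + 1) = m + 1 by omega, pow_succ', ← hidef]
        calc g⁻¹ * (x * (p * i)) * g = g⁻¹ * y * (i * g) := by
              rw [hpdef, ← mul_assoc x, ← mul_assoc x x, D.sq hx, one_mul]; group
          _ = g⁻¹ * y * g * i := by rw [mem_centralizer_iff.1 hg i hiS]; group
          _ = w * i := by rw [hydef]; group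
      have hwi : w * i ∈ D.R := mul_mem hw (hS hiS)
      obtain ⟨h, hhS, hhy, hhN⟩ := D.fusion_cent_of C.weak hS hx hwi hc hxe
      refine hno (h * (g⁻¹ * (p ^ (l + 1))⁻¹)) hhN (mul_mem hhS hc) ?_
      have e : h * (g⁻¹ * (p ^ (l + 1))⁻¹) * x * (h * (g⁻¹ * (p ^ (l + 1))⁻¹))⁻¹ = w * i := by
        rw [show h * (g⁻¹ * (p ^ (l + 1))⁻¹) * x * (h * (g⁻¹ * (p ^ (l + 1))⁻¹))⁻¹ =
          h * (g⁻¹ * (p ^ (l + 1))⁻¹ * x * (g⁻¹ * (p ^ (l + 1))⁻¹)⁻¹) * h⁻¹ by group, hxe, hhy.eq,
          mul_inv_cancel_right]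
      rw [e, ← mul_assoc, D.sq hw, one_mul]
      exact hiS

/-- The local subgroup is everything. -/
theorem eq_top_of (C : D.Control) : D.N = ⊤ := eq_top_iff.2 fun g _ => D.cent_le_of C ⊥ bot_le
  (mem_centralizer_iff.2 fun s hs => by rw [show s = 1 from mem_bot.1 hs, one_mul, mul_one])

end Frame

namespace Setting

variable {Y : Type u} [Group Y] [Finite Y] (D : Setting Y)

/-- A subgroup meeting the local subgroup in the module and normalised by an elementary group of
order nine lies in the local subgroup. -/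
theorem le_of_pair {H : Subgroup Y} (hRH : D.R ≤ H) (hNH : ∀ h ∈ H, h ∈ D.N → h ∈ D.R)
    {e₁ e₂ : Equiv.Perm W8} (he₁ : e₁ ∈ D.I) (he₂ : e₂ ∈ D.I) (he₁3 : e₁ ^ 3 = 1) (he₂3 : e₂ ^ 3 = 1)
    (hcomm : Commute e₁ e₂) (hind : ∀ i < 3, ∀ j < 3, e₁ ^ i * e₂ ^ j = 1 → i = 0 ∧ j = 0)
    (hEH0 : ∀ (n : ↥D.N) (i j : ℕ), D.img n = e₁ ^ i * e₂ ^ j → ∀ h ∈ H,
      (n : Y) * h * (n : Y)⁻¹ ∈ H) : H ≤ D.N := by
  haveI : Fact (Nat.Prime 2) := ⟨Nat.prime_two⟩
  haveI : Fact (Nat.Prime 3) := ⟨Nat.prime_three⟩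
  -- the module is a Sylow two-subgroup, self-normalising in the centraliser
  obtain ⟨P⟩ : Nonempty (Sylow 2 ↥H) := inferInstance
  obtain ⟨c, hc, hcN⟩ := D.conj_two (U := (P : Subgroup ↥H).map H.subtype) hRH (map_subtype_le _)
    (P.2.map _)
  have hRc : Nat.card ↥(D.R.subgroupOf H) = 256 :=
    (Nat.card_congr (subgroupOfEquivOfLe hRH).toEquiv).trans D.card_R
  obtain ⟨Q, hRQ⟩ := (IsPGroup.of_card (p := 2) (n := 8) (hRc.trans (by norm_num))).exists_le_sylow
  have hQeq : (Q : Subgroup ↥H) = D.R.subgroupOf H := by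
    refine (eq_of_le_of_card_ge hRQ ?_).symm
    let g : ↥(P : Subgroup ↥H) → ↥(D.R.subgroupOf H) := fun x =>
      ⟨⟨c * (x : ↥H) * c⁻¹, mul_mem (mul_mem hc (x : ↥H).2) (inv_mem hc)⟩,
        hNH _ (mul_mem (mul_mem hc (x : ↥H).2) (inv_mem hc)) (hcN _ ⟨x, x.2, rfl⟩)⟩
    have hg : Function.Injective g := fun a b e => by
      have := congrArg (fun z : ↥(D.R.subgroupOf H) => ((z : ↥H) : Y)) e
      exact Subtype.ext (Subtype.ext (mul_left_cancel (mul_right_cancel this)))
    refine le_trans (le_of_eq ?_) (Nat.card_le_card_of_injective g hg)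
    exact Q.card_eq_multiplicity.trans P.card_eq_multiplicity.symm
  have hNC : normalizer ((Q : Subgroup ↥H) : Set ↥H) ≤ centralizer ((Q : Subgroup ↥H) : Set ↥H) := by
    intro h hh
    rw [hQeq] at hh ⊢
    have hN : (h : Y) ∈ D.N := D.norm ▸ mem_normalizer_fintype fun r hr =>
      ((mem_normalizer_iff.1 hh) ⟨r, hRH hr⟩).1 hr
    exact mem_centralizer_iff.2 fun r hr => Subtype.ext (D.comm hr (hNH _ h.2 hN)).eq
  have hcompl := MonoidHom.ker_transferSylow_isComplement' Q hNC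
  set W0 := (MonoidHom.transferSylow Q hNC).ker
  have hW0n : W0.Normal := MonoidHom.normal_ker _
  have hW0o : ¬ 2 ∣ Nat.card ↥W0 := by
    rw [← hcompl.index_eq_card]
    exact Q.not_dvd_index
  set W := W0.map H.subtype with hW
  have hWc : Nat.card ↥W = Nat.card ↥W0 :=
    (Nat.card_congr (equivMapOfInjective W0 _ H.subtype_injective).toEquiv).symm
  have hWodd : ∀ h : ↥H, ¬ 2 ∣ orderOf h → h ∈ W0 := fun h ho => by
    refine (QuotientGroup.eq_one_iff h).1 (orderOf_eq_one_iff.1 (Nat.eq_one_of_dvd_coprimes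
      ((Nat.prime_two.coprime_iff_not_dvd.2 ho).symm.pow_right 8)
      (orderOf_map_dvd (QuotientGroup.mk' W0) h) ?_))
    refine (_root_.orderOf_dvd_natCard (QuotientGroup.mk' W0 h)).trans (dvd_of_eq ?_)
    rw [← Subgroup.index_eq_card, hcompl.symm.index_eq_card, hQeq, hRc]
  -- the two elements of order three
  set E0 : Subgroup (Equiv.Perm W8) := zpowers e₁ ⊔ zpowers e₂ with hE0
  set K : Subgroup ↥D.N := E0.comap D.img with hK
  obtain ⟨E⟩ : Nonempty (Sylow 3 ↥K) := inferInstance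
  set EY : Subgroup Y := ((E : Subgroup ↥K).map K.subtype).map D.N.subtype with hEY
  have hKR : ∀ k : ↥K, k ∈ (E : Subgroup ↥K) → D.img k = 1 → k = 1 := fun k hk h1 => by
    obtain ⟨i, hi⟩ := (IsPGroup.iff_orderOf.1 E.2) ⟨k, hk⟩
    rw [Subgroup.orderOf_mk] at hi
    have h2 : k * k = 1 := Subtype.ext (Subtype.ext (D.sq ((D.ker _).1 h1)))
    refine orderOf_eq_one_iff.1 (Nat.eq_one_of_dvd_coprimes ?_ (orderOf_dvd_of_pow_eq_one
      (by rw [pow_two]; exact h2 : k ^ 2 = 1)) (dvd_of_eq hi))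
    exact (Nat.Coprime.pow_right i (by norm_num : Nat.Coprime 2 3))
  have hE0mem : ∀ z ∈ E0, ∃ i < 3, ∃ j < 3, e₁ ^ i * e₂ ^ j = z := by
    intro z hz
    have hn : zpowers e₁ ≤ normalizer (zpowers e₂ : Set (Equiv.Perm W8)) := by
      rw [zpowers_le]
      refine mem_normalizer_fintype fun w hw => ?_
      obtain ⟨k, rfl⟩ := mem_zpowers_iff.1 hw
      show e₁ * e₂ ^ k * e₁⁻¹ ∈ zpowers e₂
      rw [((hcomm.zpow_right k).eq), mul_inv_cancel_right]
      exact zpow_mem (mem_zpowers _) k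
    rw [hE0, ← SetLike.mem_coe, coe_mul_of_left_le_normalizer_right _ _ hn] at hz
    obtain ⟨a, ha, b, hb, rfl⟩ := hz
    obtain ⟨i, rfl⟩ := (Submonoid.mem_powers_iff _ _).1 (mem_powers_iff_mem_zpowers.2 ha)
    obtain ⟨j, rfl⟩ := (Submonoid.mem_powers_iff _ _).1 (mem_powers_iff_mem_zpowers.2 hb)
    exact ⟨i % 3, Nat.mod_lt _ (by norm_num), j % 3, Nat.mod_lt _ (by norm_num), by
      rw [← pow_eq_pow_mod i he₁3, ← pow_eq_pow_mod j he₂3]⟩
  have hE0I : E0 ≤ D.I := by
    rw [hE0, sup_le_iff, zpowers_le, zpowers_le]; exact ⟨he₁, he₂⟩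
  have hE0c : Nat.card ↥E0 = 9 := by
    let g : Fin 3 × Fin 3 → ↥E0 := fun p => ⟨e₁ ^ (p.1 : ℕ) * e₂ ^ (p.2 : ℕ),
      mul_mem (mem_sup_left (pow_mem (mem_zpowers _) _)) (mem_sup_right (pow_mem (mem_zpowers _) _))⟩
    have hg : Function.Bijective g := by
      refine ⟨?_, fun z => ?_⟩
      · rintro ⟨⟨i, hi⟩, ⟨j, hj⟩⟩ ⟨⟨i', hi'⟩, ⟨j', hj'⟩⟩ e
        have e' : e₁ ^ i * e₂ ^ j = e₁ ^ i' * e₂ ^ j' := congrArg Subtype.val e
        have h := hind ((i + (3 - i')) % 3) (Nat.mod_lt _ (by norm_num)) ((j + (3 - j')) % 3)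
          (Nat.mod_lt _ (by norm_num)) (by
            rw [← pow_eq_pow_mod _ he₁3, ← pow_eq_pow_mod _ he₂3, pow_add, pow_add,
              Commute.mul_mul_mul_comm ((hcomm.pow_pow _ _)), e',
              ← Commute.mul_mul_mul_comm ((hcomm.pow_pow _ _)), ← pow_add, ← pow_add,
              Nat.add_sub_cancel' hi'.le, Nat.add_sub_cancel' hj'.le, he₁3, he₂3, one_mul])
        have h1 : i = i' := by omega
        have h2 : j = j' := by omega
        subst h1; subst h2; rfl
      · obtain ⟨i, hi, j, hj, e⟩ := hE0mem z z.2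
        exact ⟨(⟨i, hi⟩, ⟨j, hj⟩), Subtype.ext e⟩
    rw [← Nat.card_congr (Equiv.ofBijective g hg)]; simp
  -- the Sylow subgroup maps onto it
  set f : ↥(E : Subgroup ↥K) →* ↥E0 :=
    { toFun := fun k => ⟨D.img (k : ↥K), (k : ↥K).2⟩
      map_one' := Subtype.ext (map_one D.img)
      map_mul' := fun a b => Subtype.ext (map_mul D.img (a : ↥K).1 (b : ↥K).1) }
  have hfi : Function.Injective f := (injective_iff_map_eq_one f).2 fun k hk =>
    Subtype.ext (hKR _ k.2 (congrArg Subtype.val hk))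
  have hEc : Nat.card ↥(E : Subgroup ↥K) = 9 := by
    refine le_antisymm (hE0c ▸ Nat.card_le_card_of_injective f hfi) ?_
    have h9 : 3 ^ 2 ∣ Nat.card ↥(E : Subgroup ↥K) := by
      refine E.pow_dvd_card_of_pow_dvd_card ?_
      set q := D.img.comp K.subtype
      have hr : q.range = E0 := by
        rw [MonoidHom.range_comp, range_subtype, hK, map_comap_eq]
        exact inf_eq_right.2 (hE0I.trans D.himg.le)
      rw [← q.ker.card_mul_index, Subgroup.index_ker, hr, hE0c]
      exact dvd_mul_left _ _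
    exact Nat.le_of_dvd Nat.card_pos h9
  have hEYmem : ∀ d ∈ EY, ∃ k : ↥K, k ∈ (E : Subgroup ↥K) ∧ ((k : ↥D.N) : Y) = d := by
    rintro _ ⟨_, ⟨k, hk, rfl⟩, rfl⟩
    exact ⟨k, hk, rfl⟩
  haveI : IsMulCommutative ↥EY := ⟨⟨fun a b => by
    obtain ⟨a', ha', ea⟩ := hEYmem a a.2
    obtain ⟨b', hb', eb⟩ := hEYmem b b.2
    have hc' : (⟨a', ha'⟩ : ↥(E : Subgroup ↥K)) * ⟨b', hb'⟩ = ⟨b', hb'⟩ * ⟨a', ha'⟩ := by
      refine hfi (Subtype.ext ?_)
      obtain ⟨i, -, j, -, ei⟩ := hE0mem _ a'.2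
      obtain ⟨i', -, j', -, ei'⟩ := hE0mem _ b'.2
      show D.img ((a' * b' : ↥K) : ↥D.N) = D.img ((b' * a' : ↥K) : ↥D.N)
      rw [Subgroup.coe_mul, Subgroup.coe_mul, map_mul, map_mul, ← ei, ← ei']
      exact (((Commute.pow_pow_self e₁ i i').mul_right (hcomm.pow_pow i j')).mul_left
        ((hcomm.symm.pow_pow j i').mul_right (Commute.pow_pow_self e₂ j j'))).eq
    refine Subtype.ext ?_
    show (a : Y) * b = b * a
    rw [← ea, ← eb]
    exact congrArg (fun z : ↥(E : Subgroup ↥K) => (((z : ↥K) : ↥D.N) : Y)) hc'⟩⟩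
  have hEYc : Nat.card ↥EY = 9 := by
    rw [← Nat.card_congr (equivMapOfInjective _ _ D.N.subtype_injective).toEquiv,
      ← Nat.card_congr (equivMapOfInjective _ _ K.subtype_injective).toEquiv, hEc]
  have hEH : ∀ d ∈ EY, ∀ h ∈ H, d * h * d⁻¹ ∈ H := by
    intro d hd h hh
    obtain ⟨k, -, rfl⟩ := hEYmem d hd
    obtain ⟨i, -, j, -, e⟩ := hE0mem _ k.2
    exact hEH0 _ i j e.symm h hh
  have hEW : EY ≤ normalizer (W : Set Y) := fun d hd => mem_normalizer_fintype fun w hw => by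
    obtain ⟨w', hw', rfl⟩ := hw
    refine ⟨⟨_, hEH d hd _ w'.2⟩, hWodd _ ?_, rfl⟩
    rw [← Subgroup.orderOf_coe]
    show ¬ 2 ∣ orderOf (d * (w' : Y) * d⁻¹)
    have hoc : orderOf (d * (w' : Y) * d⁻¹) = orderOf w' := by
      rw [← Subgroup.orderOf_coe w']
      exact orderOf_injective (MulAut.conj d).toMonoidHom (MulAut.conj d).injective (w' : Y)
    rw [hoc]
    exact fun h2 => hW0o (h2.trans (Subgroup.orderOf_dvd_natCard _ hw'))
  have hWN : ∀ w ∈ W, w ∈ D.N → w = 1 := by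
    rintro _ ⟨w, hw, rfl⟩ hN
    have h2 : w ^ 2 = 1 := Subtype.ext (by
      rw [SubgroupClass.coe_pow, pow_two]; exact D.sq (hNH _ w.2 hN))
    have : w = 1 := orderOf_eq_one_iff.1 (Nat.eq_one_of_dvd_coprimes
      (Nat.prime_two.coprime_iff_not_dvd.2 hW0o) (orderOf_dvd_of_pow_eq_one h2)
      (Subgroup.orderOf_dvd_natCard _ hw))
    rw [this]; rfl
  have hfixed : ∀ a ∈ EY, a ≠ 1 → W ⊓ centralizer ({a} : Set Y) = ⊥ := by
    intro a ha ha1
    rw [eq_bot_iff]
    intro w hw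
    rw [mem_bot]
    obtain ⟨k, hk, rfl⟩ := hEYmem a ha
    refine hWN w hw.1 (D.cent_three (k : ↥D.N).2 ?_ ha1 hw.2)
    have h3 : (⟨k, hk⟩ : ↥(E : Subgroup ↥K)) ^ 3 = 1 := by
      refine hfi (Subtype.ext ?_)
      rw [map_pow, map_one]
      show (D.img (k : ↥D.N)) ^ 3 = 1
      obtain ⟨i, -, j, -, e⟩ := hE0mem _ k.2
      rw [← e, (hcomm.pow_pow i j).mul_pow, ← pow_mul, ← pow_mul, mul_comm i, mul_comm j, pow_mul,
        pow_mul, he₁3, he₂3, one_pow, one_pow, one_mul]
    exact congrArg (fun z : ↥(E : Subgroup ↥K) => (((z : ↥K) : ↥D.N) : Y)) h3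
  -- the order of the complement is prime to three
  have hW3 : (Nat.card ↥EY).Coprime (Nat.card ↥W) := by
    obtain ⟨a, ha⟩ := exists_prime_orderOf_dvd_card' (G := ↥EY) 3 (by rw [hEYc]; norm_num)
    have haY : (a : Y) ∈ normalizer (W : Set Y) := hEW a.2
    letI : MulAction ↥(zpowers (a : Y)) ↥W :=
      { smul := fun z w => ⟨(z : Y) * w * (z : Y)⁻¹,
          (mem_normalizer_iff.1 ((zpowers_le.2 haY) z.2) w).1 w.2⟩
        one_smul := fun w => Subtype.ext (show (1 : Y) * w * (1 : Y)⁻¹ = w by group)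
        mul_smul := fun z z' w => Subtype.ext (show ((z : Y) * z') * w * ((z : Y) * z')⁻¹ =
          (z : Y) * ((z' : Y) * w * (z' : Y)⁻¹) * (z : Y)⁻¹ by group) }
    have hp : IsPGroup 3 ↥(zpowers (a : Y)) := IsPGroup.of_card (n := 1)
      (by rw [Nat.card_zpowers, Subgroup.orderOf_coe, ha, pow_one])
    have hmod := hp.card_modEq_card_fixedPoints ↥W
    haveI : Subsingleton (MulAction.fixedPoints ↥(zpowers (a : Y)) ↥W) := ⟨by
      have hone : ∀ w ∈ MulAction.fixedPoints ↥(zpowers (a : Y)) ↥W, w = 1 := fun w hw => by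
        have h1 : (a : Y) * w * (a : Y)⁻¹ = w :=
          congrArg Subtype.val (hw ⟨(a : Y), mem_zpowers _⟩)
        have : (w : Y) ∈ W ⊓ centralizer ({(a : Y)} : Set Y) :=
          ⟨w.2, mem_centralizer_singleton_iff.2 (mul_inv_eq_iff_eq_mul.1 h1).symm⟩
        rw [hfixed a a.2 (fun e => by
          rw [show a = 1 from Subtype.ext e, orderOf_one] at ha; norm_num at ha), mem_bot] at this
        exact Subtype.ext this
      intro x y
      exact Subtype.ext ((hone x x.2).trans (hone y y.2).symm)⟩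
    have hne : Nonempty (MulAction.fixedPoints ↥(zpowers (a : Y)) ↥W) :=
      ⟨⟨1, fun z => Subtype.ext (show (z : Y) * 1 * (z : Y)⁻¹ = 1 by group)⟩⟩
    rw [Nat.card_eq_one_iff_unique.2 ⟨inferInstance, hne⟩] at hmod
    rw [hEYc, show (9 : ℕ) = 3 ^ 2 from rfl]
    refine Nat.Coprime.pow_left 2 (Nat.prime_three.coprime_iff_not_dvd.2 fun h3 => ?_)
    have := (Nat.ModEq.symm hmod).trans (Nat.modEq_zero_iff_dvd.2 h3)
    exact absurd this (by decide)
  have hWbot : W = ⊥ := by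
    have hncyc : ¬ IsCyclic ↥EY := fun hcyc => by
      obtain ⟨g, hg⟩ := hcyc.exists_ofOrder_eq_natCard
      rw [hEYc] at hg
      obtain ⟨k, hk, ek⟩ := hEYmem g g.2
      obtain ⟨i, -, j, -, e⟩ := hE0mem _ k.2
      have h3 : (g : Y) ^ 3 = 1 := by
        have h3' : (⟨k, hk⟩ : ↥(E : Subgroup ↥K)) ^ 3 = 1 := by
          refine hfi (Subtype.ext ?_)
          rw [map_pow, map_one]
          show (D.img (k : ↥D.N)) ^ 3 = 1
          rw [← e, (hcomm.pow_pow i j).mul_pow, ← pow_mul, ← pow_mul, mul_comm i, mul_comm j, pow_mul,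
            pow_mul, he₁3, he₂3, one_pow, one_pow, one_mul]
        rw [← ek]
        exact congrArg (fun z : ↥(E : Subgroup ↥K) => (((z : ↥K) : ↥D.N) : Y)) h3'
      have := orderOf_dvd_of_pow_eq_one (show g ^ 3 = 1 from Subtype.ext h3)
      rw [hg] at this
      norm_num at this
    have h := Cfsg.Agent.S0058.result EY W hncyc hEW hW3
    rw [← h]
    simp only [iSup_eq_bot]
    exact fun a ha => hfixed a ha.1 ha.2
  intro h hh
  have htop : (Q : Subgroup ↥H) = ⊤ := by
    have := hcompl.sup_eq_top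
    rw [map_eq_bot_iff_of_injective _ H.subtype_injective] at hWbot
    rwa [hWbot, bot_sup_eq] at this
  have hmem : (⟨h, hh⟩ : ↥H) ∈ D.R.subgroupOf H := hQeq ▸ htop ▸ mem_top _
  exact D.RN hmem

/-- A subgroup of a hyperplane type has its centraliser in the local subgroup. -/
theorem cent_hyp {v : W8} (hv : v ≠ 0) :
    ∃ T : Set Y, T ⊆ D.R ∧ (∀ x ∈ T, bb (D.vec x) v = false) ∧ centralizer T ≤ D.N := by
  haveI : Fact (Nat.Prime 2) := ⟨Nat.prime_two⟩
  haveI : Fact (Nat.Prime 3) := ⟨Nat.prime_three⟩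
  obtain ⟨J, e₁, e₂, hJ, he₁, he₂, he₁3, he₂3, hcomm, hind, hJe, htriv⟩ := D.himg.exists_hyp hv
  set T : Set Y := {x | x ∈ D.R ∧ D.vec x ∈ J} with hT
  refine ⟨T, fun x hx => hx.1, fun x hx => hJ _ hx.2, ?_⟩
  set H := centralizer T with hH
  have hRH : D.R ≤ H := fun r hr => mem_centralizer_iff.2 fun x hx => (D.comm hx.1 hr).eq
  have hNH : ∀ h ∈ H, h ∈ D.N → h ∈ D.R := fun h hh hN => by
    refine (D.ker ⟨h, hN⟩).1 (htriv _ (D.img_mem _) fun z hz => ?_)
    have hzT : D.lift z ∈ T := ⟨D.lift_mem z, by rw [D.vec_lift]; exact hz⟩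
    have h' := D.fix_of_commute ⟨h, hN⟩ (D.lift_mem z) (mem_centralizer_iff.1 hh _ hzT).symm
    rwa [D.vec_lift] at h'
  refine D.le_of_pair hRH hNH he₁ he₂ he₁3 he₂3 hcomm hind fun n i j e h hh => ?_
  have hp : ∀ (g : Equiv.Perm W8) (m : ℕ), (∀ z ∈ J, g z ∈ J) → ∀ z ∈ J, (g ^ m) z ∈ J := by
    intro g m hg
    induction m with
    | zero => exact fun z hz => hz
    | succ m ih =>
      intro z hz
      rw [pow_succ', Equiv.Perm.mul_apply]
      exact hg _ (ih z hz)
  have hfwd : ∀ z ∈ J, D.img n z ∈ J := fun z hz => by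
    rw [e, Equiv.Perm.mul_apply]
    exact hp e₁ i (fun z hz => (hJe z hz).1) _ (hp e₂ j (fun z hz => (hJe z hz).2) z hz)
  refine mem_centralizer_iff.2 fun x hx => ?_
  have hxT : (n : Y)⁻¹ * x * n ∈ T := by
    have h1 := D.conj_R (inv_mem n.2) hx.1
    rw [inv_inv] at h1
    refine ⟨h1, ?_⟩
    have h2 := D.vec_conj n⁻¹ hx.1
    rw [Subgroup.coe_inv, inv_inv] at h2
    rw [h2]
    obtain ⟨z, hz, ez⟩ : D.vec x ∈ D.img n '' J := by
      rw [Set.eq_of_subset_of_ncard_le (s := D.img n '' J) (t := J)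
        (by rintro _ ⟨z, hz, rfl⟩; exact hfwd z hz)
        (le_of_eq (Set.ncard_image_of_injective _ (D.img n).injective).symm) (Set.toFinite _)]
      exact hx.2
    rw [← ez, map_inv, Equiv.Perm.inv_def, Equiv.symm_apply_apply]
    exact hz
  have h3 := mem_centralizer_iff.1 hh _ hxT
  calc x * ((n : Y) * h * (n : Y)⁻¹) = (n : Y) * ((n : Y)⁻¹ * x * n * h) * (n : Y)⁻¹ := by group
    _ = (n : Y) * (h * ((n : Y)⁻¹ * x * n)) * (n : Y)⁻¹ := by rw [h3]
    _ = _ := by group

/-- A subgroup fixed pointwise by a reflection has its centraliser in the local subgroup. -/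
theorem cent_ref {S : Subgroup Y} (hS : S ≤ D.R) (hSc : Nat.card ↥S = 64) {t : Equiv.Perm W8}
    (ht : t ∈ D.img.range) (ht3 : t ^ 3 = 1) (ht1 : t ≠ 1) (hts : ∀ s ∈ S, t (D.vec s) = D.vec s) :
    centralizer (S : Set Y) ≤ D.N := by
  haveI : Fact (Nat.Prime 3) := ⟨Nat.prime_three⟩
  have hin : Nat.card ↥S ≤ {v : W8 | t v = v}.ncard := by
    rw [← Nat.card_coe_set_eq]
    exact Nat.card_le_card_of_injective (fun s : ↥S => (⟨D.vec s, hts s s.2⟩ : {v : W8 | t v = v}))
      fun a b e => Subtype.ext (D.vec_ext (hS a.2) (hS b.2) (congrArg Subtype.val e))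
  obtain h16 | ⟨h64, hstab, e₁, e₂, he₁, he₂, he₁3, he₂3, hcomm, hind, hc1, hc2⟩ :=
    D.himg.fix_ref ht (D.himg.lin_of_pow_three ht ht3) ht3 ht1
  · omega
  have hFix : ∀ v, t v = v → ∃ s ∈ S, D.vec s = v := fun v hv => by
    have e : D.vec '' (S : Set Y) = {v : W8 | t v = v} :=
      Set.eq_of_subset_of_ncard_le (by rintro _ ⟨s, hs, rfl⟩; exact hts s hs) (by
        rw [h64, Set.ncard_image_of_injOn fun a ha b hb e => D.vec_ext (hS ha) (hS hb) e,
          ← Nat.card_coe_set_eq]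
        exact hSc.ge) (Set.toFinite _)
    have hv' : v ∈ D.vec '' (S : Set Y) := by rw [e]; exact hv
    exact hv'
  set H := centralizer (S : Set Y) with hH
  have hRH : D.R ≤ H := fun r hr => mem_centralizer_iff.2 fun x hx => (D.comm (hS hx) hr).eq
  have hNH : ∀ h ∈ H, ∀ hN : h ∈ D.N, D.img ⟨h, hN⟩ ∈ zpowers t := fun h hh hN => by
    refine hstab _ (D.img_mem _) fun v hv => ?_
    obtain ⟨s, hs, rfl⟩ := hFix v hv
    exact D.fix_of_commute ⟨h, hN⟩ (hS hs) (mem_centralizer_iff.1 hh s hs).symm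
  obtain ⟨n₀, hn₀, hn₀3, hn₀1⟩ := D.exists_lift_three ht ht3 ht1
  let ρ : ↥H := ⟨n₀, mem_centralizer_iff.2 fun s hs =>
    (D.commute_of_fix n₀ (hS hs) (by rw [hn₀]; exact hts s hs)).symm⟩
  obtain ⟨P, hP⟩ := (IsPGroup.of_card (p := 3) (n := 1) (show Nat.card ↥(zpowers ρ) = 3 ^ 1 by
    rw [Nat.card_zpowers, ← Subgroup.orderOf_coe, pow_one]
    exact Frame.orderOf_eq_three hn₀3 hn₀1)).exists_le_sylow
  have hρP : ρ ∈ (P : Subgroup ↥H) := hP (mem_zpowers _)
  have hPN := D.sylow_three P hρP n₀.2 hn₀3 hn₀1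
  let φ : ↥(P : Subgroup ↥H) →* Equiv.Perm W8 :=
    { toFun := fun x => D.img ⟨(x : ↥H), hPN x x.2⟩
      map_one' := map_one D.img
      map_mul' := fun a b => map_mul D.img ⟨_, hPN a a.2⟩ ⟨_, hPN b b.2⟩ }
  have hφ : Function.Injective φ := (injective_iff_map_eq_one φ).2 fun x hx => by
    obtain ⟨i, hi⟩ := (IsPGroup.iff_orderOf.1 P.2) x
    have h2 : x ^ 2 = 1 := Subtype.ext (Subtype.ext (by
      push_cast
      rw [pow_two]
      exact D.sq ((D.ker ⟨((x : ↥H) : Y), hPN x x.2⟩).1 hx)))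
    exact orderOf_eq_one_iff.1 (Nat.eq_one_of_dvd_coprimes
      (Nat.Coprime.pow_right i (by norm_num : Nat.Coprime 2 3)) (orderOf_dvd_of_pow_eq_one h2) (dvd_of_eq hi))
  have hPc : Nat.card ↥(P : Subgroup ↥H) = 3 := by
    refine le_antisymm ?_ ?_
    · refine le_trans (Nat.card_le_card_of_injective (fun x : ↥(P : Subgroup ↥H) =>
        (⟨φ x, hNH _ (x : ↥H).2 (hPN x x.2)⟩ : ↥(zpowers t)))
        fun a b e => hφ (congrArg Subtype.val e)) ?_
      rw [Nat.card_zpowers, orderOf_eq_prime ht3 ht1]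
    · refine le_trans (le_of_eq ?_) (Subgroup.card_le_of_le hP)
      rw [Nat.card_zpowers, ← Subgroup.orderOf_coe]
      exact (Frame.orderOf_eq_three hn₀3 hn₀1).symm
  have hPeq : (P : Subgroup ↥H) = zpowers ρ := by
    refine (eq_of_le_of_card_ge hP ?_).symm
    rw [hPc, Nat.card_zpowers, ← Subgroup.orderOf_coe]
    exact (Frame.orderOf_eq_three hn₀3 hn₀1).ge
  have hNC : normalizer ((P : Subgroup ↥H) : Set ↥H) ≤ centralizer ((P : Subgroup ↥H) : Set ↥H) := by
    intro g hg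
    have hgρ := ((mem_normalizer_iff.1 hg) ρ).1 hρP
    have hgN : (g : Y) ∈ D.N := D.strong n₀.2 hn₀3 hn₀1 (hPN _ hgρ)
    have e : g * ρ * g⁻¹ = ρ := by
      have h1 : φ ⟨_, hgρ⟩ = φ ⟨ρ, hρP⟩ := by
        show D.img (⟨g, hgN⟩ * n₀ * ⟨g, hgN⟩⁻¹) = D.img n₀
        rw [map_mul, map_mul, map_inv, hn₀]
        obtain ⟨m, hm⟩ := mem_zpowers_iff.1 (hNH g g.2 hgN)
        rw [← hm]
        group
      exact congrArg Subtype.val (hφ h1)
    have hc : zpowers ρ ≤ centralizer ({g} : Set ↥H) :=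
      zpowers_le.2 (mem_centralizer_singleton_iff.2 (mul_inv_eq_iff_eq_mul.1 e).symm)
    exact mem_centralizer_iff.2 fun x hx => mem_centralizer_singleton_iff.1 (hc (hPeq ▸ hx))
  have hcompl := MonoidHom.ker_transferSylow_isComplement' P hNC
  set K := (MonoidHom.transferSylow P hNC).ker
  haveI : K.Normal := MonoidHom.normal_ker _
  have hK3 : ¬ 3 ∣ Nat.card ↥K := by
    rw [← hcompl.index_eq_card]
    exact P.not_dvd_index
  have hKmem : ∀ h : ↥H, ¬ 3 ∣ orderOf h → h ∈ K := fun h ho => by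
    refine (QuotientGroup.eq_one_iff h).1 (orderOf_eq_one_iff.1 (Nat.eq_one_of_dvd_coprimes
      (Nat.prime_three.coprime_iff_not_dvd.2 ho).symm (orderOf_map_dvd (QuotientGroup.mk' K) h) ?_))
    refine (_root_.orderOf_dvd_natCard (QuotientGroup.mk' K h)).trans (dvd_of_eq ?_)
    rw [← Subgroup.index_eq_card, hcompl.symm.index_eq_card, hPc]
  have hKord : ∀ h : ↥H, h ∈ K → ¬ 3 ∣ orderOf h := fun h hh h3 =>
    hK3 (h3.trans (Subgroup.orderOf_dvd_natCard _ hh))
  have hKle : K.map H.subtype ≤ D.N := by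
    refine D.le_of_pair ?_ ?_ he₁ he₂ he₁3 he₂3 hcomm hind ?_
    · intro r hr
      refine ⟨⟨r, hRH hr⟩, hKmem _ fun h3 => ?_, rfl⟩
      rw [← Subgroup.orderOf_coe] at h3
      have h2 := orderOf_dvd_of_pow_eq_one (show r ^ 2 = 1 by rw [pow_two]; exact D.sq hr)
      exact absurd (h3.trans h2) (by norm_num)
    · rintro _ ⟨k, hk, rfl⟩ hN
      refine (D.ker ⟨_, hN⟩).1 (orderOf_eq_one_iff.1 (Nat.eq_one_of_dvd_coprimes
        (Nat.prime_three.coprime_iff_not_dvd.2 (hKord k hk)) ?_ ?_))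
      · refine (orderOf_dvd_of_mem_zpowers (hNH _ k.2 hN)).trans (dvd_of_eq ?_)
        exact orderOf_eq_prime ht3 ht1
      · refine orderOf_dvd_of_pow_eq_one ?_
        rw [← map_pow, show (⟨H.subtype k, hN⟩ : ↥D.N) ^ orderOf k = 1 from Subtype.ext (by
          push_cast
          rw [← map_pow, pow_orderOf_eq_one, map_one]), map_one]
    · rintro n i j e _ ⟨k, hk, rfl⟩
      have hnt : Commute (D.img n) t := by
        rw [e]; exact (hc1.pow_left i).mul_left (hc2.pow_left j)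
      have hm : (n : Y) * k * (n : Y)⁻¹ ∈ H := mem_centralizer_iff.2 fun s hs => by
        obtain ⟨s', hs', es⟩ := hFix ((D.img n)⁻¹ (D.vec s)) (by
          rw [← Equiv.Perm.mul_apply, ← hnt.inv_left.eq, Equiv.Perm.mul_apply, hts s hs])
        have e2 : (n : Y) * s' * (n : Y)⁻¹ = s := D.vec_ext (D.conj_R n.2 (hS hs')) (hS hs) (by
          rw [D.vec_conj n (hS hs'), es, Equiv.Perm.inv_def, Equiv.apply_symm_apply])
        rw [← e2]
        exact ((show Commute s' (k : Y) from mem_centralizer_iff.1 k.2 s' hs').map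
          (MulAut.conj (n : Y)).toMonoidHom).eq
      refine ⟨⟨_, hm⟩, hKmem _ ?_, rfl⟩
      rw [← Subgroup.orderOf_coe]
      have hoc : orderOf ((n : Y) * k * (n : Y)⁻¹) = orderOf k := by
        rw [← Subgroup.orderOf_coe k]
        exact orderOf_injective (MulAut.conj (n : Y)).toMonoidHom (MulAut.conj (n : Y)).injective (k : Y)
      rw [show ((⟨(n : Y) * k * (n : Y)⁻¹, hm⟩ : ↥H) : Y) = (n : Y) * k * (n : Y)⁻¹ from rfl, hoc]
      exact hKord k hk
  intro h hh
  obtain ⟨a, ha, b, hb, e⟩ : ∃ a ∈ K, ∃ b ∈ (P : Subgroup ↥H), a * b = (⟨h, hh⟩ : ↥H) := by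
    obtain ⟨⟨a, b⟩, e⟩ := hcompl.2 ⟨h, hh⟩
    exact ⟨a, a.2, b, b.2, e⟩
  rw [show h = (a : Y) * b from (congrArg Subtype.val e).symm]
  exact mul_mem (hKle ⟨a, ha, rfl⟩) (hPN b hb)

/-- The local subgroup is everything. -/
theorem eq_top : D.N = ⊤ :=
  D.eq_top_of ⟨D.weakly_closed, D.strongly_closed, D.cent_hyp, D.cent_ref⟩

end Setting

end Cfsg.Agent.UThreeLocal.Two
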