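import Cfsg.Agent.Lib.UThreeLocal.Two.Setting

/-!
# The module is weakly and strongly closed in the local subgroup
-/

set_option autoImplicit false
set_option linter.unusedSectionVars false
set_option linter.style.haveILetI false

namespace Cfsg.Agent.UThreeLocal.Two

open Subgroup
open Cfsg.Agent.ThreeTransp.U62Cent (W8)
open Cfsg.Agent.ThreeTransp.U62Cent.W8 (qe bb)

universe u

namespace Frame

variable {Y : Type u} [Group Y] [Finite Y] (D : Frame Y)

theorem img_add (n : ↥D.N) (v w : W8) : D.img n (v + w) = D.img n v + D.img n w :=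
  D.himg.add (D.img_mem n) v w

/-- A fixed vector gives an element of order three centralising a translate. -/
theorem exists_translate {u : Y} (hu : u ∈ D.N) (h2 : u * u = 1) {t : Equiv.Perm W8}
    (ht : D.img ⟨u, hu⟩ = t) {d : Equiv.Perm W8} (hd : d ∈ D.img.range) (h3 : d ^ 3 = 1) (h1 : d ≠ 1)
    (hc : Commute d t) :
    ∃ (s : Y) (n : ↥D.N), s ∈ D.R ∧ Commute u s ∧ D.img n = d ∧ (n : Y) ^ 3 = 1 ∧ (n : Y) ≠ 1 ∧
      Commute (n : Y) (u * s) := by
  obtain ⟨n, hn, hn3, hn1⟩ := D.exists_lift_three hd h3 h1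
  set un : ↥D.N := ⟨u, hu⟩ with hun
  set r := u⁻¹ * ((n : Y) * u * (n : Y)⁻¹) with hr
  have hrR : r ∈ D.R := (D.ker (un⁻¹ * (n * un * n⁻¹))).1 (by
    rw [map_mul, map_inv, map_mul, map_mul, map_inv, hn, ht, hc.eq, mul_inv_cancel_right, inv_mul_cancel])
  have e : (n : Y) * u * (n : Y)⁻¹ = u * r := by rw [hr, mul_inv_cancel_left]
  have hui : u⁻¹ = u := inv_eq_of_mul_eq_one_right h2
  have hcu : Commute u r := by
    have h := (show (u * r) * (u * r) = 1 by rw [← e, conj_mul, h2, mul_one, mul_inv_cancel])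
    calc u * r = (u * r)⁻¹ := (inv_eq_of_mul_eq_one_right h).symm
      _ = r * u := by rw [mul_inv_rev, hui, D.inv_eq hrR]
  set s := (n : Y) * r * (n : Y)⁻¹ with hs
  have hsR : s ∈ D.R := D.conj_R n.2 hrR
  have hcs : Commute u s := by
    refine D.commute_of_fix un hsR ?_
    rw [D.vec_conj n hrR, hn, ht, ← Equiv.Perm.mul_apply, ← hc.eq, Equiv.Perm.mul_apply]
    congr 1
    rw [← ht]
    exact D.fix_of_commute un hrR hcu
  refine ⟨s, n, hsR, hcs, hn, hn3, hn1, ?_⟩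
  -- the product of the three translates is trivial
  set s2 := (n : Y) * s * (n : Y)⁻¹ with hs2
  have hs2R : s2 ∈ D.R := D.conj_R n.2 hsR
  have hprod : r * s * s2 = 1 := by
    have h : (n : Y) ^ 3 * u * ((n : Y) ^ 3)⁻¹ = u * (r * s * s2) := by
      calc (n : Y) ^ 3 * u * ((n : Y) ^ 3)⁻¹
          = (n : Y) * ((n : Y) * ((n : Y) * u * (n : Y)⁻¹) * (n : Y)⁻¹) * (n : Y)⁻¹ := by
            simp only [pow_succ, pow_zero, one_mul]; group
        _ = (n : Y) * ((n : Y) * (u * r) * (n : Y)⁻¹) * (n : Y)⁻¹ := by rw [e]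
        _ = (n : Y) * ((n : Y) * u * (n : Y)⁻¹ * s) * (n : Y)⁻¹ := by rw [hs]; group
        _ = (n : Y) * (u * r * s) * (n : Y)⁻¹ := by rw [e]
        _ = (n : Y) * u * (n : Y)⁻¹ * s * s2 := by rw [hs2, hs]; group
        _ = _ := by rw [e]; group
    rw [hn3, one_mul, inv_one, mul_one] at h
    exact left_eq_mul.1 h
  show (n : Y) * (u * s) = u * s * n
  rw [← mul_inv_eq_iff_eq_mul]
  calc (n : Y) * (u * s) * (n : Y)⁻¹ = (n : Y) * u * (n : Y)⁻¹ * s2 := by rw [hs2]; group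
    _ = u * (r * s2) := by rw [e, mul_assoc]
    _ = u * s := by
      congr 1
      calc r * s2 = r * s2 * (r * s * s2) := by rw [hprod, mul_one]
        _ = (r * r) * s * (s2 * s2) := by
          rw [show r * s2 * (r * s * s2) = r * (s2 * (r * s)) * s2 by group,
            (D.comm hs2R (mul_mem hrR hsR)).eq]
          group
        _ = s := by rw [D.sq hrR, D.sq hs2R, one_mul, mul_one]

/-- Conjugation by the module. -/
theorem conj_translate {u : Y} (hu : u ∈ D.N) {w : Y} (hw : w ∈ D.R) {s : Y} (hs : s ∈ D.R)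
    (e : D.vec s = D.img ⟨u⁻¹, inv_mem hu⟩ (D.vec w) + D.vec w) : w * u * w⁻¹ = u * s := by
  have h1 : u⁻¹ * w * u ∈ D.R := by simpa using D.conj_R (inv_mem hu) hw
  have h2 : s = u⁻¹ * w * u * w⁻¹ := D.vec_ext hs (mul_mem h1 (inv_mem hw)) (by
    rw [e, D.vec_mul h1 (inv_mem hw), D.inv_eq hw, ← D.vec_conj ⟨u⁻¹, inv_mem hu⟩ hw]
    simp)
  rw [h2]; group

/-- An element fused into the local subgroup outside the module induces a transvection. -/
def TvFused : Prop := ∀ {x u g : Y}, x ∈ D.R → ∀ hu : u ∈ D.N, u ∉ D.R → g * x * g⁻¹ = u →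
  IsTv D.I (D.img ⟨u, hu⟩)

/-- Certain elements of order three commute with no such element. -/
def Excluded (P : Equiv.Perm W8 → Prop) : Prop := ∀ {x u g : Y}, x ∈ D.R → u ∈ D.N → u ∉ D.R →
  g * x * g⁻¹ = u → ∀ n : ↥D.N, P (D.img n) → (n : Y) ^ 3 = 1 → (n : Y) ≠ 1 → ¬ Commute (n : Y) u

/-- At a transvection two such elements cover the fixed space modulo the line. -/
def Paired (P : Equiv.Perm W8 → Prop) : Prop := ∀ t : Equiv.Perm W8, IsTv D.I t →
  ∃ d₁ d₂ : Equiv.Perm W8, d₁ ∈ D.I ∧ d₂ ∈ D.I ∧ P d₁ ∧ P d₂ ∧ d₁ ^ 3 = 1 ∧ d₂ ^ 3 = 1 ∧ d₁ ≠ 1 ∧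
    d₂ ≠ 1 ∧ Commute d₁ t ∧ Commute d₂ t ∧
    ∀ c, t c = c → ∃ w x, t x = x ∧ d₁ x = x ∧ d₂ (t w + w + x + c) = t w + w + x + c

/-- The module is weakly closed. -/
def WeakClosed : Prop := ∀ {y : Y}, (∀ r ∈ D.R, y * r * y⁻¹ ∈ D.N) → y ∈ D.N

/-- The module is weakly closed in the local subgroup. -/
theorem weakly_closed_of (hT : D.TvFused) {y : Y} (h : ∀ r ∈ D.R, y * r * y⁻¹ ∈ D.N) : y ∈ D.N := by
  by_contra hy
  obtain ⟨r₀, hr₀, hr₀R⟩ : ∃ r ∈ D.R, y * r * y⁻¹ ∉ D.R := by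
    by_contra hno
    push Not at hno
    exact hy (D.norm ▸ mem_normalizer_fintype hno)
  let f : ↥D.R →* Equiv.Perm W8 := D.img.comp
    (((MulAut.conj y).toMonoidHom.comp D.R.subtype).codRestrict D.N fun r => h r r.2)
  have hf : ∀ r : ↥D.R, f r = D.img ⟨y * r * y⁻¹, h r r.2⟩ := fun r => rfl
  have htv : ∀ r : ↥D.R, f r ≠ 1 → IsTv D.I (f r) := by
    intro r hr
    rw [hf] at hr ⊢
    exact hT r.2 (h r r.2) (fun h' => hr ((D.ker _).2 h')) rfl
  set t := f ⟨r₀, hr₀⟩ with ht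
  have ht1 : t ≠ 1 := fun e => hr₀R ((D.ker ⟨_, h r₀ hr₀⟩).1 e)
  have hran : f.range ≤ zpowers t := by
    rintro _ ⟨r, rfl⟩
    by_cases h1 : f r = 1
    · rw [h1]; exact one_mem _
    by_cases h2 : f r = t
    · rw [h2]; exact mem_zpowers t
    refine absurd (htv (r * ⟨r₀, hr₀⟩) fun e => h2 ?_) ?_
    · rw [map_mul] at e
      rw [eq_inv_of_mul_eq_one_left e, ← map_inv]
      exact congrArg f (Subtype.ext (D.inv_eq hr₀))
    · rw [map_mul]
      exact D.himg.tv_mul (htv r h1) (htv _ ht1) ((show Commute r ⟨r₀, hr₀⟩ from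
        Subtype.ext (D.comm r.2 hr₀).eq).map f) h2
  have ho : orderOf t = 2 := by
    refine orderOf_eq_prime ?_ ht1
    rw [pow_two, ht, ← map_mul, show (⟨r₀, hr₀⟩ : ↥D.R) * ⟨r₀, hr₀⟩ = 1 from Subtype.ext (D.sq hr₀), map_one]
  have hker : 128 ≤ Nat.card ↥f.ker := by
    have h1 := f.ker.card_mul_index
    rw [Subgroup.index_ker, D.card_R] at h1
    have h2 : Nat.card ↥f.range ≤ 2 :=
      (Nat.le_of_dvd Nat.card_pos (card_dvd_of_le hran)).trans (by rw [Nat.card_zpowers, ho])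
    nlinarith
  -- the kernel gives fixed vectors of the transvection
  have hmem : ∀ r : ↥f.ker, y * (r : ↥D.R) * y⁻¹ ∈ D.R := fun r => (D.ker _).1 r.2
  let F : ↥f.ker → {v : W8 | t v = v} := fun r => ⟨D.vec (y * (r : ↥D.R) * y⁻¹),
    D.fix_of_commute ⟨y * r₀ * y⁻¹, h r₀ hr₀⟩ (hmem r)
      ((D.comm hr₀ (r : ↥D.R).2).map (MulAut.conj y).toMonoidHom)⟩
  have hF : Function.Injective F := fun a b e => by
    have := D.vec_ext (hmem a) (hmem b) (congrArg Subtype.val e)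
    exact Subtype.ext (Subtype.ext (mul_left_cancel (mul_right_cancel this)))
  have h3 := Nat.card_le_card_of_injective F hF
  rw [Nat.card_coe_set_eq, D.himg.tv_fix (htv _ ht1)] at h3
  omega

/-- A two-subgroup of a subgroup containing the module is conjugate into the local subgroup. -/
theorem conj_two_of (hw : D.WeakClosed) {H U : Subgroup Y} (hRH : D.R ≤ H) (hU : U ≤ H) (hUp : IsPGroup 2 ↥U) :
    ∃ h ∈ H, ∀ x ∈ U, h * x * h⁻¹ ∈ D.N := by
  haveI : Fact (Nat.Prime 2) := ⟨Nat.prime_two⟩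
  have hRp : IsPGroup 2 ↥(D.R.subgroupOf H) := IsPGroup.of_card (n := 8)
    ((Nat.card_congr (subgroupOfEquivOfLe hRH).toEquiv).trans (by rw [D.card_R]; norm_num))
  obtain ⟨P, hP⟩ := hRp.exists_le_sylow
  obtain ⟨Q, hQ⟩ := (hUp.of_equiv (subgroupOfEquivOfLe hU).symm).exists_le_sylow
  obtain ⟨c, hc⟩ := MulAction.exists_smul_eq ↥H Q P
  set L : Subgroup ↥(P : Subgroup ↥H) := (D.N.comap H.subtype).comap (P : Subgroup ↥H).subtype
  haveI := P.2.isNilpotent
  have hL : L = ⊤ := by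
    refine normalizerCondition_iff_only_full_group_self_normalizing.1 normalizerCondition_of_isNilpotent L ?_
    refine le_antisymm (fun x hx => ?_) le_normalizer
    refine hw (y := ((x : ↥H) : Y)) fun r hr => ?_
    have hrP : (⟨r, hRH hr⟩ : ↥H) ∈ (P : Subgroup ↥H) := hP hr
    have hrL : (⟨_, hrP⟩ : ↥(P : Subgroup ↥H)) ∈ L := D.RN hr
    exact ((mem_normalizer_iff.1 hx) _).1 hrL
  refine ⟨c, c.2, fun x hx => ?_⟩
  have hm : c * ⟨x, hU hx⟩ * c⁻¹ ∈ ((c • Q : Sylow 2 ↥H) : Subgroup ↥H) := by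
    rw [Sylow.coe_subgroup_smul]
    exact ⟨⟨x, hU hx⟩, hQ hx, rfl⟩
  rw [hc] at hm
  exact (hL ▸ mem_top _ : (⟨_, hm⟩ : ↥(P : Subgroup ↥H)) ∈ L)

/-- Fusion in the module inside a centraliser is controlled by the local subgroup. -/
theorem fusion_cent_of (hw : D.WeakClosed) {S : Set Y} (hS : S ⊆ D.R) {x y c : Y} (hx : x ∈ D.R) (hy : y ∈ D.R)
    (hc : c ∈ centralizer S) (hxy : c * x * c⁻¹ = y) :
    ∃ h : Y, h ∈ centralizer S ∧ Commute h y ∧ h * c ∈ D.N := by
  have hH : D.R ≤ centralizer (insert y S) := fun r hr => mem_centralizer_iff.2 fun s hs => by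
    rcases Set.mem_insert_iff.1 hs with rfl | hs
    · exact (D.comm hy hr).eq
    · exact (D.comm (hS hs) hr).eq
  have hU : D.R.map (MulAut.conj c).toMonoidHom ≤ centralizer (insert y S) := by
    rintro _ ⟨r, hr, rfl⟩
    refine mem_centralizer_iff.2 fun s hs => ?_
    rcases Set.mem_insert_iff.1 hs with rfl | hs
    · rw [← hxy]
      exact ((D.comm hx hr).map (MulAut.conj c).toMonoidHom).eq
    · show s * (c * r * c⁻¹) = c * r * c⁻¹ * s
      have h1 := mem_centralizer_iff.1 hc s hs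
      have h2 : Commute s c⁻¹ := Commute.inv_right h1
      exact (Commute.mul_right (Commute.mul_right h1 (D.comm (hS hs) hr)) h2).eq
  obtain ⟨h, hh, hN⟩ := D.conj_two_of hw hH hU
    ((IsPGroup.of_card (n := 8) (by rw [D.card_R]; norm_num)).map _)
  have hh' := mem_centralizer_iff.1 hh
  refine ⟨h, mem_centralizer_iff.2 fun s hs => hh' s (Set.mem_insert_of_mem _ hs),
    (hh' y (Set.mem_insert _ _)).symm, hw fun r hr => ?_⟩
  have := hN _ ⟨r, hr, rfl⟩
  simp only [MulEquiv.coe_toMonoidHom, MulAut.conj_apply] at this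
  convert this using 1
  group

/-- The module is strongly closed in the local subgroup. -/
theorem strongly_closed_of (hw : D.WeakClosed) (hT : D.TvFused) {P : Equiv.Perm W8 → Prop}
    (hX : D.Excluded P) (hP : D.Paired P) {x g : Y} (hx : x ∈ D.R) (hu : g * x * g⁻¹ ∈ D.N) : g * x * g⁻¹ ∈ D.R := by
  by_contra huR
  set u := g * x * g⁻¹ with hudef
  have hu2 : u * u = 1 := by rw [hudef, conj_mul, D.sq hx, mul_one, mul_inv_cancel]
  have htv := hT hx hu huR hudef.symm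
  set t := D.img ⟨u, hu⟩ with ht
  obtain ⟨d₁, d₂, hd₁, hd₂, hP₁, hP₂, h31, h32, h11, h12, hc1, hc2, hspan⟩ := hP t htv
  obtain ⟨s₁, n₁, hs₁, hus₁, hn₁, hn₁3, hn₁1, hns₁⟩ :=
    D.exists_translate hu hu2 ht.symm (D.himg.le hd₁) h31 h11 hc1
  obtain ⟨s₂, n₂, hs₂, hus₂, hn₂, hn₂3, hn₂1, hns₂⟩ :=
    D.exists_translate hu hu2 ht.symm (D.himg.le hd₂) h32 h12 hc2
  -- the two-group at `u` moved to `x`
  set C := D.R ⊓ centralizer ({u} : Set Y) with hC
  set U := C ⊔ zpowers u with hU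
  have hCu : zpowers u ≤ normalizer (C : Set Y) := by
    rw [zpowers_le]
    exact mem_normalizer_fintype fun r hr => by
      show u * r * u⁻¹ ∈ C
      rw [(mem_centralizer_singleton_iff.1 hr.2).symm, mul_inv_cancel_right]
      exact hr
  have hUp : IsPGroup 2 ↥U := IsPGroup.to_sup_of_normal_left'
    ((IsPGroup.of_card (n := 8) (by rw [D.card_R]; norm_num)).to_le inf_le_left)
    (IsPGroup.of_card (n := 1) (by
      rw [Nat.card_zpowers, orderOf_eq_prime (p := 2) (by rw [pow_two, hu2])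
        (fun e : u = 1 => huR (e ▸ one_mem D.R))]; norm_num)) hCu
  have hUle : U.map (MulAut.conj g⁻¹).toMonoidHom ≤ centralizer ({x} : Set Y) := by
    rw [map_le_iff_le_comap, hU, sup_le_iff, zpowers_le]
    have key : ∀ r, Commute r u → MulAut.conj g⁻¹ r ∈ centralizer ({x} : Set Y) := fun r hr => by
      rw [mem_centralizer_singleton_iff]
      have := hr.map (MulAut.conj g⁻¹).toMonoidHom
      simp only [MulEquiv.coe_toMonoidHom, MulAut.conj_apply] at this
      rw [show g⁻¹ * u * g⁻¹⁻¹ = x by rw [hudef]; group] at this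
      exact this.eq
    exact ⟨fun r hr => key r (mem_centralizer_singleton_iff.1 hr.2), key u (Commute.refl u)⟩
  obtain ⟨h, hh, hN⟩ := D.conj_two_of hw (fun r hr => mem_centralizer_singleton_iff.2 (D.comm hr hx).eq)
    hUle (hUp.map _)
  set k := h * g⁻¹ with hk
  have hku : k * u * k⁻¹ = x := by
    rw [hk, hudef, show h * g⁻¹ * (g * x * g⁻¹) * (h * g⁻¹)⁻¹ = h * x * h⁻¹ by group,
      mem_centralizer_singleton_iff.1 hh, mul_inv_cancel_right]
  have hkN : ∀ r ∈ C, k * r * k⁻¹ ∈ D.N := fun r hr => by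
    have := hN _ ⟨r, mem_sup_left hr, rfl⟩
    simp only [MulEquiv.coe_toMonoidHom, MulAut.conj_apply] at this
    convert this using 1
    rw [hk]; group
  let f : ↥C →* Equiv.Perm W8 := D.img.comp
    (((MulAut.conj k).toMonoidHom.comp C.subtype).codRestrict D.N fun r => hkN r r.2)
  have hf : ∀ r : ↥C, f r = D.img ⟨k * r * k⁻¹, hkN r r.2⟩ := fun r => rfl
  have hftv : ∀ r : ↥C, f r ≠ 1 → IsTv D.I (f r) := by
    intro r hr
    rw [hf] at hr ⊢
    exact hT r.2.1 (hkN r r.2) (fun h' => hr ((D.ker _).2 h')) rfl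
  have hpair : ∀ a b : ↥C, f a ≠ 1 → f b ≠ 1 → f (a * b) = 1 := by
    intro a b ha hb
    by_contra hab
    have h2 : f b * f b = 1 := by rw [← map_mul, show b * b = 1 from Subtype.ext (D.sq b.2.1), map_one]
    by_cases e : f a = f b
    · exact hab (by rw [map_mul, e, h2])
    · refine D.himg.tv_mul (hftv a ha) (hftv b hb)
        ((show Commute a b from Subtype.ext (D.comm a.2.1 b.2.1).eq).map f) e ?_
      rw [← map_mul]
      exact hftv _ hab
  -- translates with an element of order three are outside the kernel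
  have hout : ∀ (n : ↥D.N) (r : ↥C), P (D.img n) → (n : Y) ^ 3 = 1 → (n : Y) ≠ 1 →
      Commute (n : Y) (u * r) → f r ≠ 1 := by
    intro n r hnP hn3 hn1 hnc e
    have hkR : k * r * k⁻¹ ∈ D.R := (D.ker ⟨_, hkN r r.2⟩).1 e
    have hxr : x * (k * r * k⁻¹) ∈ D.R := mul_mem hx hkR
    have hur : u * (r : Y) ∈ D.N := mul_mem hu (D.RN r.2.1)
    have he : k⁻¹ * (x * (k * r * k⁻¹)) * k⁻¹⁻¹ = u * r := by rw [← hku]; group
    have hnR : u * (r : Y) ∉ D.R := fun h' => huR (by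
      have := mul_mem h' (inv_mem r.2.1)
      rwa [mul_inv_cancel_right] at this)
    exact hX hxr hur hnR he n hnP hn3 hn1 hnc
  have hs₁C : s₁ ∈ C := ⟨hs₁, mem_centralizer_singleton_iff.2 hus₁.symm.eq⟩
  have hs₂C : s₂ ∈ C := ⟨hs₂, mem_centralizer_singleton_iff.2 hus₂.symm.eq⟩
  have h1 := hout n₁ ⟨s₁, hs₁C⟩ (hn₁ ▸ hP₁) hn₁3 hn₁1 hns₁
  have h2 := hout n₂ ⟨s₂, hs₂C⟩ (hn₂ ▸ hP₂) hn₂3 hn₂1 hns₂
  -- the kernel holds the whole fixed space
  have hone : ∀ a b : ↥C, f a ≠ 1 → f (a * b) ≠ 1 → f b = 1 := by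
    intro a b ha hab
    have := hpair a (a * b) ha hab
    rwa [← mul_assoc, show a * a = 1 from Subtype.ext (D.sq a.2.1), one_mul] at this
  have hfix : ∀ (n : ↥D.N) (s : ↥C) (d : Equiv.Perm W8) (v : W8), D.img n = d → (n : Y) ^ 3 = 1 →
      (n : Y) ≠ 1 → Commute (n : Y) (u * s) → t v = v → d v = v →
      ∀ r : ↥C, D.vec r = v → P d → f r = 1 := by
    intro n s d v hn hn3 hn1 hns _ hdv r hr hPd
    refine hone s r (hout n s (hn ▸ hPd) hn3 hn1 hns) (hout n _ (hn ▸ hPd) hn3 hn1 ?_)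
    show Commute (n : Y) (u * ((s : Y) * r))
    rw [← mul_assoc]
    exact hns.mul_right (D.commute_of_fix n r.2.1 (by rw [hn, hr, hdv]))
  have hline : ∀ (w : W8) (r : ↥C), D.vec r = t w + w → f r = 1 := by
    intro w r hr
    refine hone ⟨s₁, hs₁C⟩ r h1 (hout ⟨D.lift w * n₁ * (D.lift w)⁻¹,
      mul_mem (mul_mem (D.RN (D.lift_mem w)) n₁.2) (inv_mem (D.RN (D.lift_mem w)))⟩ _ ?_ ?_ ?_ ?_)
    · rw [show (⟨D.lift w * (n₁ : Y) * (D.lift w)⁻¹, _⟩ : ↥D.N) =
        ⟨D.lift w, D.RN (D.lift_mem w)⟩ * n₁ * ⟨D.lift w, D.RN (D.lift_mem w)⟩⁻¹ from rfl, map_mul, map_mul,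
        map_inv, D.img_of_R (D.lift_mem w), one_mul, inv_one, mul_one, hn₁]
      exact hP₁
    · show (D.lift w * (n₁ : Y) * (D.lift w)⁻¹) ^ 3 = 1
      rw [conj_pow, hn₁3, mul_one, mul_inv_cancel]
    · show D.lift w * (n₁ : Y) * (D.lift w)⁻¹ ≠ 1
      rw [Ne, conj_eq_one_iff]; exact hn₁1
    · have e : D.lift w * (u * s₁) * (D.lift w)⁻¹ = u * (s₁ * r) := by
        have e1 : D.lift w * u * (D.lift w)⁻¹ = u * r := D.conj_translate hu (D.lift_mem w) r.2.1 (by
          rw [D.vec_lift, hr]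
          congr 2
          exact congrArg D.img (Subtype.ext (inv_eq_of_mul_eq_one_right hu2).symm))
        calc D.lift w * (u * s₁) * (D.lift w)⁻¹
            = D.lift w * u * (D.lift w)⁻¹ * (D.lift w * s₁ * (D.lift w)⁻¹) := by group
          _ = u * r * s₁ := by rw [e1, (D.comm (D.lift_mem w) hs₁).eq, mul_inv_cancel_right]
          _ = _ := by rw [mul_assoc, (D.comm r.2.1 hs₁).eq]
      show Commute (D.lift w * (n₁ : Y) * (D.lift w)⁻¹) (u * (s₁ * r))
      rw [← e]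
      exact hns₁.map (MulAut.conj (D.lift w)).toMonoidHom
  have hall : ∀ r : ↥C, f r = 1 := by
    intro r
    have htr : t (D.vec r) = D.vec r :=
      D.fix_of_commute ⟨u, hu⟩ r.2.1 (mem_centralizer_singleton_iff.1 r.2.2).symm
    obtain ⟨w, z, hz, hz1, hz2⟩ := hspan (D.vec r) htr
    have htadd := D.img_add ⟨u, hu⟩
    rw [← ht] at htadd
    have htl : t (t w + w) = t w + w := by
      rw [htadd, ← Equiv.Perm.mul_apply, ← map_mul,
        show (⟨u, hu⟩ : ↥D.N) * ⟨u, hu⟩ = 1 from Subtype.ext hu2, map_one, Equiv.Perm.one_apply,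
        add_comm]
    have hmem : ∀ v, t v = v → D.lift v ∈ C := fun v hv => ⟨D.lift_mem v,
      mem_centralizer_singleton_iff.2 (D.commute_of_fix ⟨u, hu⟩ (D.lift_mem v)
        (by rw [D.vec_lift]; exact hv)).symm.eq⟩
    let a : ↥C := ⟨_, hmem _ htl⟩
    let b : ↥C := ⟨_, hmem _ hz⟩
    have ha : f a = 1 := hline w a (D.vec_lift _)
    have hb : f b = 1 := hfix n₁ ⟨s₁, hs₁C⟩ d₁ z hn₁ hn₁3 hn₁1 hns₁ hz hz1 b (D.vec_lift _) hP₁
    have hv : D.vec (a * b * r : ↥C) = t w + w + z + D.vec r := by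
      push_cast
      rw [D.vec_mul (mul_mem a.2.1 b.2.1) r.2.1, D.vec_mul a.2.1 b.2.1, D.vec_lift, D.vec_lift]
    have habr : f (a * b * r) = 1 := hfix n₂ ⟨s₂, hs₂C⟩ d₂ _ hn₂ hn₂3 hn₂1 hns₂
      (by rw [htadd, htadd, htl, hz, htr]) hz2 _ hv hP₂
    rwa [map_mul, map_mul, ha, hb, one_mul, one_mul] at habr
  exact h1 (hall _)

end Frame

namespace Setting

variable {Y : Type u} [Group Y] [Finite Y] (D : Setting Y)

/-- An involution of the local subgroup conjugate into the module. -/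
structure Bad (u : Y) : Prop where
  mem : u ∈ D.N
  two : u * u = 1
  no_three : ∀ d ∈ D.N, d ^ 3 = 1 → d ≠ 1 → ¬ Commute d u

theorem bad_of_fused {x u g : Y} (hx : x ∈ D.R) (hu : u ∈ D.N) (huR : u ∉ D.R)
    (he : g * x * g⁻¹ = u) : D.Bad u := by
  refine ⟨hu, by rw [← he, conj_mul, D.sq hx, mul_one, mul_inv_cancel], fun d hd h3 h1 hc => huR ?_⟩
  obtain ⟨n, hn, hne⟩ := D.fusion he (D.three_of_R hx) ⟨d, hd, h3, h1, hc⟩
  exact hne ▸ D.conj_R hn hx

theorem Bad.tv {u : Y} (hu : D.Bad u) : IsTv D.I (D.img ⟨u, hu.mem⟩) := by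
  set t := D.img ⟨u, hu.mem⟩ with ht
  have hne : t ≠ 1 := fun e => by
    obtain ⟨d, hd, h3, h1, hc⟩ := D.three_of_R ((D.ker _).1 e)
    exact hu.no_three d hd h3 h1 hc
  rcases D.himg.inv_cases (D.img_mem _) (by
      rw [← map_mul, show (⟨u, hu.mem⟩ : ↥D.N) * ⟨u, hu.mem⟩ = 1 from Subtype.ext hu.two, map_one])
      hne with h | ⟨⟨d, hd, h3, h1, hc⟩, him⟩
  · exact h
  exfalso
  obtain ⟨s, n, hs, hus, hn, hn3, hn1, hns⟩ := D.exists_translate hu.mem hu.two ht.symm (D.himg.le hd) h3 h1 hc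
  obtain ⟨w, hw⟩ := him (D.vec s) (D.fix_of_commute ⟨u, hu.mem⟩ hs hus)
  have hW := D.lift_mem w
  have e : D.lift w * u * (D.lift w)⁻¹ = u * s := D.conj_translate hu.mem hW hs (by
    rw [D.vec_lift, ← hw]
    congr 2
    exact congrArg D.img (Subtype.ext (inv_eq_of_mul_eq_one_right hu.two).symm))
  rw [← e] at hns
  refine hu.no_three ((D.lift w)⁻¹ * n * D.lift w) (mul_mem (mul_mem (inv_mem (D.RN hW)) n.2) (D.RN hW))
    ?_ ?_ ?_
  · nth_rw 2 [← inv_inv (D.lift w)]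
    rw [conj_pow, hn3, mul_one, inv_inv, inv_mul_cancel]
  · intro h
    refine hn1 ?_
    rw [mul_assoc, inv_mul_eq_one, eq_comm] at h
    exact mul_eq_right.1 h
  · have := hns.map (MulAut.conj (D.lift w)⁻¹).toMonoidHom
    simp only [MulEquiv.coe_toMonoidHom, MulAut.conj_apply, inv_inv] at this
    convert this using 1
    group

theorem tvFused : D.TvFused := fun hx hu huR he => (D.bad_of_fused hx hu huR he).tv

theorem excluded : D.Excluded fun _ => True := fun hx hu huR he n _ h3 h1 =>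
  (D.bad_of_fused hx hu huR he).no_three n n.2 h3 h1

theorem paired : D.Paired fun _ => True := fun t ht =>
  let ⟨d₁, d₂, h1, h2, h⟩ := D.himg.tv_pair ht
  ⟨d₁, d₂, h1, h2, trivial, trivial, h⟩

/-- The module is weakly closed in the local subgroup. -/
theorem weakly_closed : D.WeakClosed := fun h => D.weakly_closed_of D.tvFused h

/-- A two-subgroup of a subgroup containing the module is conjugate into the local subgroup. -/
theorem conj_two {H U : Subgroup Y} (hRH : D.R ≤ H) (hU : U ≤ H) (hUp : IsPGroup 2 ↥U) :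
    ∃ h ∈ H, ∀ x ∈ U, h * x * h⁻¹ ∈ D.N := D.conj_two_of D.weakly_closed hRH hU hUp

/-- The module is strongly closed in the local subgroup. -/
theorem strongly_closed {x g : Y} (hx : x ∈ D.R) (hu : g * x * g⁻¹ ∈ D.N) : g * x * g⁻¹ ∈ D.R :=
  D.strongly_closed_of D.weakly_closed D.tvFused D.excluded D.paired hx hu

end Setting

end Cfsg.Agent.UThreeLocal.Two
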