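import Cfsg.Agent.Lib.UThreeLocal.Two.Data
import Cfsg.Agent.Lib.ThreeTransp.U62Cent.Points

/-!
# The natural module: elements of order three
-/

set_option autoImplicit false
set_option maxRecDepth 100000
set_option synthInstance.maxSize 4096
set_option synthInstance.maxHeartbeats 200000

namespace Cfsg.Agent.UThreeLocal.Two

open Cfsg.Agent.ThreeTransp.U62Cent
open Cfsg.Agent.ThreeTransp.U62Cent.W8

/-- the matrices of a Sylow three-subgroup -/
def P0 : List (List W8) := Data.sylThree.map fun w => cols (wT w)

/-- the matrices of its elementary subgroup of order 27 -/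
def A0 : List (List W8) := P0.take 27

/-- the fixed vectors of a matrix -/
def fixL (M : List W8) : List W8 := (span basis).filter fun v => app M v == v

/-- the vectors orthogonal to a list -/
def perpL (l : List W8) : List W8 := (span basis).filter fun v => l.all fun u => !bb v u

theorem words_ok : (Data.sylThree.all fun w => okT w) = true ∧ P0.length = 81 ∧ A0.length = 27 ∧
    A0.getD 0 [] = cols id := by decide +kernel

theorem P0_nodup : (P0.map fun A => A.foldl (fun n x => n * 256 + W8.code x) 0).Nodup := by
  decide +kernel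

theorem P0_table : tableOk P0 Data.sylThreeTable = true := by decide +kernel

theorem A0_table : ((List.range 27).all fun i => (List.range 27).all fun j =>
    decide (((Data.sylThreeTable.getD i []).getD j 0) < 27) &&
      (((Data.sylThreeTable.getD i []).getD j 0) == ((Data.sylThreeTable.getD j []).getD i 0))) = true := by
  decide +kernel

/-- outside the elementary subgroup the centraliser in it is small -/
theorem A0_cent : ((P0.drop 27).all fun x =>
    decide ((A0.filter fun a => mulM a x == mulM x a).length ≤ 3)) = true := by decide +kernel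

/-- the elements of order three are conjugate into the elementary subgroup -/
theorem conj_ok : ((List.range 81).all fun i => decide (i < 27) ||
    mulM (P0.getD i []) (mulM (P0.getD i []) (P0.getD i [])) != cols id ||
    Data.conjThree.any fun t => t.1 == i && decide (t.2.1 < 27) && okT t.2.2 &&
      (mulM (cols (wT t.2.2)) (P0.getD i []) == mulM (P0.getD t.2.1 []) (cols (wT t.2.2)))) = true := by
  decide +kernel

theorem fix_small : ∀ a ∈ A0, a = cols id ∨ (fixL a).length ≤ 16 := by decide +kernel

theorem orbit_one : ∀ v : W8, qe true v = false ∨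
    ∃ w ∈ Data.orbOne, okT w = true ∧ wT w (mk 1) = v := by decide +kernel

theorem reps : qe true (mk 1) = true ∧ qe true (mk 5) = false ∧ mk 1 ≠ 0 ∧ mk 5 ≠ 0 := by decide +kernel

theorem vec_fixed : (∀ v ∈ [mk 1, mk 5], ∃ a ∈ A0, a ≠ cols id ∧ app a v = v) := by decide +kernel

/-- two elements of the elementary subgroup at the transvection -/
theorem transvection_pair :
    (∀ a ∈ [A0.getD 12 [], A0.getD 13 []], a ∈ A0 ∧ a ≠ cols id ∧
      mulM a (cols N.a0) = mulM (cols N.a0) a) ∧
    ∀ c ∈ N.C0, ∃ l ∈ N.L0, ∃ x ∈ fixL (A0.getD 12 []), app (cols N.a0) x = x ∧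
      app (A0.getD 13 []) (l + x + c) = l + x + c := by decide +kernel

theorem other_class : A0.getD 17 [] ∈ A0 ∧ A0.getD 17 [] ≠ cols id ∧
    mulM (A0.getD 17 []) (cols N.a1) = mulM (cols N.a1) (A0.getD 17 []) := by decide +kernel

/-- a hyperplane type subspace at each representative -/
def hyp : List (W8 × List W8 × List W8 × List W8) :=
  [(mk 1, perpL [mk 1], A0.getD 4 [], A0.getD 5 []),
   (mk 5, perpL [mk 5, mk 14], A0.getD 15 [], A0.getD 1 [])]

theorem hyp_ok : ∀ t ∈ hyp, t.2.2.1 ∈ A0 ∧ t.2.2.2 ∈ A0 ∧ 16 < t.2.1.length ∧ t.2.1.Nodup ∧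
    (∀ i < 3, ∀ j < 3, (i = 0 ∧ j = 0) ∨
      mulM (Nat.iterate (mulM t.2.2.1) i (cols id)) (Nat.iterate (mulM t.2.2.2) j (cols id)) ≠ cols id) ∧
    (∀ x ∈ t.2.1, bb x t.1 = false ∧ app t.2.2.1 x ∈ t.2.1 ∧ app t.2.2.2 x ∈ t.2.1) := by
  decide +kernel

/-- the hyperplane type subspaces span over the field -/
theorem hyp_span : ∀ t ∈ hyp, ∀ u ∈ basis, ∃ x ∈ t.2.1, ∃ y ∈ t.2.1, x + W8.sig y = u := by
  decide +kernel

/-- the product of two commuting transvections is no transvection -/
theorem two_transvections : ∀ p ∈ pts, ∀ r ∈ pts, p = r ∨ N.com p r = false ∨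
    ∀ s ∈ pts, cols (fun v => tv p (tv r v)) ≠ cols (tv s) := by decide +kernel

end Cfsg.Agent.UThreeLocal.Two
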