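import Cfsg.Agent.Lib.UThreeLocal.Two.Facts
import Cfsg.Agent.Lib.ThreeTransp.U62Cent.AutBasic

/-!
# The image on the natural module: elements of order three and their orbits
-/

set_option autoImplicit false
set_option maxRecDepth 100000
set_option linter.unusedSectionVars false
set_option linter.style.haveILetI false

namespace Cfsg.Agent.UThreeLocal.Two

open Cfsg.Agent.ThreeTransp.U62Cent
open Cfsg.Agent.ThreeTransp.U62Cent.W8

/-- A group of isometries of the natural module around the simple image. -/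
structure Img (I Γ : Subgroup (Equiv.Perm W8)) : Prop where
  inat : INat I
  le : I ≤ Γ
  iso : ∀ t ∈ Γ, IsIso true false t
  semi : ∀ t ∈ Γ, t ∉ GN → ∀ v, t (W8.sig v) = W8.sig (W8.sig (t v))

/-- Up to a scalar, in the standard elementary subgroup. -/
def InA (g : Equiv.Perm W8) : Prop := ∃ k : ℕ, cols (sigP ^ k * g : Equiv.Perm W8) ∈ A0

theorem app_cols {g : Equiv.Perm W8} (hg : g ∈ addPerm) (v : W8) : app (cols g) v = g v :=
  app_map_basis hg v

theorem cols_one : cols (1 : Equiv.Perm W8) = cols id := rfl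

theorem commute_of_cols {g h : Equiv.Perm W8} (hg : g ∈ addPerm) (hh : h ∈ addPerm)
    (e : mulM (cols g) (cols h) = mulM (cols h) (cols g)) : Commute g h :=
  perm_ext (mul_mem hg hh) (mul_mem hh hg) (by rw [cols_mul hg, cols_mul hh, e])

theorem P0_mul : ∀ A ∈ P0, ∀ B ∈ P0, mulM A B ∈ P0 := mul_mem_of_table P0_table

theorem A0_sub : ∀ A ∈ A0, A ∈ P0 := fun _ h => List.mem_of_mem_take h

theorem cols_id_mem : cols id ∈ A0 := by
  have hl : 0 < A0.length := by rw [words_ok.2.2.1]; norm_num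
  rw [← words_ok.2.2.2, List.getD_eq_getElem _ _ hl]
  exact List.getElem_mem hl

theorem A0_get {i : ℕ} (hi : i < 27) : A0.getD i [] = P0.getD i [] := by
  have h1 : i < A0.length := by rw [words_ok.2.2.1]; exact hi
  have h2 : i < P0.length := by rw [words_ok.2.1]; omega
  rw [List.getD_eq_getElem _ _ h1, List.getD_eq_getElem _ _ h2]
  exact List.getElem_take

theorem A0_mem_get {i : ℕ} (hi : i < 27) : P0.getD i [] ∈ A0 := by
  have h1 : i < A0.length := by rw [words_ok.2.2.1]; exact hi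
  rw [← A0_get hi, List.getD_eq_getElem _ _ h1]
  exact List.getElem_mem h1

theorem A0_mul : ∀ A ∈ A0, ∀ B ∈ A0, mulM A B ∈ A0 ∧ mulM A B = mulM B A := by
  intro A hA B hB
  obtain ⟨i, hi, rfl⟩ := List.getElem_of_mem hA
  obtain ⟨j, hj, rfl⟩ := List.getElem_of_mem hB
  rw [words_ok.2.2.1] at hi hj
  rw [← List.getD_eq_getElem _ [], ← List.getD_eq_getElem _ [], A0_get hi, A0_get hj]
  have h := A0_table
  have t := P0_table
  simp only [List.all_eq_true, List.mem_range, Bool.and_eq_true, decide_eq_true_eq, beq_iff_eq] at h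
  simp only [tableOk, List.all_eq_true, List.mem_range, Bool.and_eq_true, decide_eq_true_eq,
    beq_iff_eq, words_ok.2.1] at t
  obtain ⟨h1, h2⟩ := h i hi j hj
  rw [(t i (by omega) j (by omega)).2]
  refine ⟨A0_mem_get h1, ?_⟩
  rw [(t j (by omega) i (by omega)).2, h2]

theorem P0_nodup' : P0.Nodup := P0_nodup.of_map _

theorem A0_nodup : A0.Nodup := P0_nodup'.sublist (List.take_sublist _ _)

/-- A subgroup given by a list holds every element with a matrix on the list. -/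
theorem mem_of_cols {I : Subgroup (Equiv.Perm W8)} (hI : I ≤ addPerm) (S : Subgroup (Equiv.Perm W8))
    (hS : S ≤ I) (P : List (List W8)) (hn : P.Nodup) (hc : Nat.card S = P.length)
    (hP : ∀ g ∈ S, cols g ∈ P) {g : Equiv.Perm W8} (hg : g ∈ I) (hgP : cols g ∈ P) : g ∈ S := by
  classical
  let f : ↥S → P.toFinset := fun x => ⟨cols (x : Equiv.Perm W8), List.mem_toFinset.2 (hP x x.2)⟩
  have hf : Function.Injective f := fun x y e => Subtype.ext
    (perm_ext (hI (hS x.2)) (hI (hS y.2)) (congrArg Subtype.val e))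
  have hs : Function.Surjective f := (Nat.bijective_iff_injective_and_card f).2 ⟨hf, by
    rw [hc, Nat.card_eq_fintype_card, Fintype.card_coe, List.toFinset_card_of_nodup hn]⟩ |>.2
  obtain ⟨x, hx⟩ := hs ⟨cols g, List.mem_toFinset.2 hgP⟩
  exact perm_ext (hI (hS x.2)) (hI hg) (congrArg Subtype.val hx) ▸ x.2

theorem nonabelian : ∃ a ∈ P0, ∃ b ∈ P0, mulM a b ≠ mulM b a := by
  refine ⟨P0.getD 1 [], by decide +kernel, P0.getD 27 [], by decide +kernel, by decide +kernel⟩

namespace Img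

variable {I Γ : Subgroup (Equiv.Perm W8)} (h : Img I Γ)

include h

theorem add : Γ ≤ addPerm := fun t ht => (h.iso t ht).add

theorem real : ∀ A ∈ P0, ∃ g ∈ I, cols g = A := by
  intro A hA
  obtain ⟨w, hw, rfl⟩ := List.mem_map.1 hA
  obtain ⟨g, hg, e⟩ := h.inat.word (List.all_eq_true.1 words_ok.1 w hw)
  exact ⟨g, hg, by rw [e]⟩

/-- the elementary subgroup of order 27 -/
theorem exists_A0 : ∃ S : Subgroup (Equiv.Perm W8), S ≤ I ∧ Nat.card S = 27 ∧
    ∀ g ∈ I, g ∈ S ↔ cols g ∈ A0 := by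
  obtain ⟨S, h1, h2, h3⟩ := exists_subgroup_of_list h.inat.add A0 A0_nodup cols_id_mem
    (fun A hA B hB => (A0_mul A hA B hB).1) fun A hA => h.real A (A0_sub A hA)
  exact ⟨S, h1, h2.trans words_ok.2.2.1, fun g hg => ⟨h3 g, mem_of_cols h.inat.add S h1 A0 A0_nodup h2 h3 hg⟩⟩

/-- a Sylow three-subgroup -/
theorem exists_P0 : ∃ S : Subgroup (Equiv.Perm W8), S ≤ I ∧ Nat.card S = 81 ∧ (∀ g ∈ S, cols g ∈ P0) ∧
    ∀ g ∈ I, cols g ∈ P0 → g ∈ S := by
  obtain ⟨S, h1, h2, h3⟩ := exists_subgroup_of_list h.inat.add P0 P0_nodup'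
    (A0_sub _ cols_id_mem) P0_mul h.real
  exact ⟨S, h1, h2.trans words_ok.2.1, h3, fun g hg => mem_of_cols h.inat.add S h1 P0 P0_nodup' h2 h3 hg⟩

/-- A three-subgroup is conjugate into the Sylow subgroup. -/
theorem conj_P0 (B : Subgroup (Equiv.Perm W8)) (hB : B ≤ I) {n : ℕ} (hn : Nat.card B = 3 ^ n) :
    ∃ y ∈ I, ∀ b ∈ B, cols (y * b * y⁻¹ : Equiv.Perm W8) ∈ P0 := by
  classical
  haveI : Fact (Nat.Prime 3) := ⟨Nat.prime_three⟩
  obtain ⟨S, hSI, hS, hSP, -⟩ := h.exists_P0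
  set S' : Subgroup I := S.subgroupOf I
  have hS' : Nat.card S' = 81 := (Nat.card_congr (Subgroup.subgroupOfEquivOfLe hSI).toEquiv).trans hS
  have hp : IsPGroup 3 S' := IsPGroup.of_card (n := 4) (by rw [hS']; norm_num)
  have hidx : ¬ 3 ∣ S'.index := by
    have e := S'.card_mul_index
    rw [hS', h.inat.card] at e
    omega
  have hBp : IsPGroup 3 (B.subgroupOf I) := IsPGroup.of_card (n := n)
    ((Nat.card_congr (Subgroup.subgroupOfEquivOfLe hB).toEquiv).trans hn)
  obtain ⟨T', hT'⟩ := hBp.exists_le_sylow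
  obtain ⟨g, hg⟩ := MulAction.exists_smul_eq I T' (hp.toSylow hidx)
  refine ⟨g, g.2, fun b hb => ?_⟩
  have hm : g * ⟨b, hB hb⟩ * g⁻¹ ∈ ((g • T' : Sylow 3 I) : Subgroup I) := by
    rw [Sylow.coe_subgroup_smul]
    exact ⟨⟨b, hB hb⟩, hT' hb, rfl⟩
  rw [hg] at hm
  exact hSP _ (Subgroup.mem_subgroupOf.1 hm)

/-- An elementary subgroup of order 27 is conjugate to the standard one. -/
theorem conj_A0 (B : Subgroup (Equiv.Perm W8)) (hB : B ≤ I) (hc : Nat.card B = 27)
    (hcomm : ∀ a ∈ B, ∀ b ∈ B, Commute a b) :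
    ∃ y ∈ I, ∀ g ∈ I, cols (y * g * y⁻¹ : Equiv.Perm W8) ∈ A0 ↔ g ∈ B := by
  classical
  obtain ⟨y, hy, hyP⟩ := h.conj_P0 B hB (n := 3) (by rw [hc]; norm_num)
  obtain ⟨A, hAI, hA, hAA⟩ := h.exists_A0
  obtain ⟨S, hSI, hS, -, hSin⟩ := h.exists_P0
  set B' : Subgroup (Equiv.Perm W8) := B.map (MulAut.conj y).toMonoidHom with hB'
  have hB'c : Nat.card B' = 27 :=
    (Nat.card_congr (Subgroup.equivMapOfInjective B _ (MulAut.conj y).injective).toEquiv).symm.trans hc
  have hB'S : B' ≤ S := by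
    rintro _ ⟨b, hb, rfl⟩
    exact hSin _ (mul_mem (mul_mem hy (hB hb)) (inv_mem hy)) (hyP b hb)
  have hAS : A ≤ S := fun g hg => hSin g (hAI hg) (A0_sub _ ((hAA g (hAI hg)).1 hg))
  have hBA : B' ≤ A := by
    intro b hb
    by_contra hbA
    have h1 := Nat.card_congr (Subgroup.subgroupOfEquivOfLe hAS).toEquiv
    have h2 := Nat.card_congr (Subgroup.subgroupOfEquivOfLe hB'S).toEquiv
    have e1 := (A.subgroupOf S).card_mul_index
    have e2 := (B'.subgroupOf S).card_mul_index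
    rw [h1, hA, hS] at e1
    rw [h2, hB'c, hS] at e2
    have hle := Subgroup.index_inf_le (H := A.subgroupOf S) (K := B'.subgroupOf S)
    rw [show (A.subgroupOf S).index = 3 by omega, show (B'.subgroupOf S).index = 3 by omega] at hle
    have e3 := ((A ⊓ B').subgroupOf S).card_mul_index
    rw [Nat.card_congr (Subgroup.subgroupOfEquivOfLe (inf_le_left.trans hAS)).toEquiv, hS] at e3
    have hle' : ((A ⊓ B').subgroupOf S).index ≤ 9 := by
      refine le_trans (le_of_eq ?_) hle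
      rw [Subgroup.subgroupOf, Subgroup.comap_inf]
      rfl
    have h9 : 9 ≤ Nat.card ↥(A ⊓ B') := by nlinarith
    have hbS := hB'S hb
    have hbI := hSI hbS
    have hbP : cols b ∈ P0 := by
      obtain ⟨c, hc', rfl⟩ := hb
      exact hyP c hc'
    have hbn : cols b ∈ P0.drop 27 := by
      have := List.take_append_drop 27 P0
      rw [← this] at hbP
      exact (List.mem_append.1 hbP).resolve_left fun e => hbA ((hAA b hbI).2 e)
    have h3 := of_decide_eq_true (List.all_eq_true.1 A0_cent _ hbn)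
    let f : ↥(A ⊓ B') → (A0.filter fun a => mulM a (cols b) == mulM (cols b) a).toFinset := fun x =>
      ⟨cols (x : Equiv.Perm W8), List.mem_toFinset.2 (List.mem_filter.2 ⟨(hAA _ (hAI x.2.1)).1 x.2.1, by
        obtain ⟨c, hc', ec⟩ := x.2.2
        obtain ⟨d, hd, ed⟩ := hb
        rw [beq_iff_eq, ← cols_mul (h.inat.add (hAI x.2.1)), ← cols_mul (h.inat.add hbI)]
        congr 1
        rw [← ec, ← ed, ← map_mul, ← map_mul, (hcomm c hc' d hd).eq]⟩)⟩
    have hf : Function.Injective f := fun x y e => Subtype.ext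
      (perm_ext (h.inat.add (hAI x.2.1)) (h.inat.add (hAI y.2.1)) (congrArg Subtype.val e))
    have h4 := Nat.card_le_card_of_injective f hf
    rw [Nat.card_eq_finsetCard] at h4
    have := List.toFinset_card_le (A0.filter fun a => mulM a (cols b) == mulM (cols b) a)
    omega
  have hBA' : B' = A := Subgroup.eq_of_le_of_card_ge hBA (by omega)
  refine ⟨y, hy, fun g hg => ⟨fun e => ?_, fun hgB =>
    (hAA _ (mul_mem (mul_mem hy hg) (inv_mem hy))).1 (hBA ⟨g, hgB, rfl⟩)⟩⟩
  have hyg : y * g * y⁻¹ ∈ A := (hAA _ (mul_mem (mul_mem hy hg) (inv_mem hy))).2 e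
  rw [← hBA'] at hyg
  obtain ⟨c, hc', ec⟩ := hyg
  exact (MulAut.conj y).injective (ec : MulAut.conj y c = MulAut.conj y g) ▸ hc'

theorem two {t s : Equiv.Perm W8} (ht : t ∈ Γ) (hs : s ∈ Γ) (htI : t ∉ GN) (hsI : s ∉ GN) : t * s ∈ GN := by
  refine ⟨fun v w => ?_, fun v => ?_, fun _ v => ?_⟩
  · exact (h.iso _ (mul_mem ht hs)).add v w
  · exact (h.iso _ (mul_mem ht hs)).q v
  · show t (s (W8.sig v)) = W8.sig (t (s v))
    rw [h.semi s hs hsI, h.semi t ht htI, h.semi t ht htI, sig_three]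

theorem lin_of_pow_three {t : Equiv.Perm W8} (ht : t ∈ Γ) (h3 : t ^ 3 = 1) : t ∈ GN := by
  by_contra hI
  have h2 := h.two ht ht hI hI
  have e : t = (t * t)⁻¹ := (inv_eq_of_mul_eq_one_right (by rwa [pow_succ, pow_two] at h3)).symm
  exact hI (e ▸ inv_mem h2)

theorem scalar_comm {g : Equiv.Perm W8} (hg : g ∈ GN) (k : ℕ) : Commute g (sigP ^ k) :=
  Commute.pow_right (Equiv.ext fun v => hg.sig rfl v) k

theorem scalar_mem {k : ℕ} (hk : sigP ^ k ∈ I) : sigP ^ k = 1 := by
  rw [pow_eq_pow_mod k sigP_pow_three] at hk ⊢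
  have hlt := Nat.mod_lt k (by norm_num : 0 < 3)
  interval_cases k % 3
  · exact pow_zero _
  · rw [pow_one] at hk; exact absurd hk h.inat.sigP_notMem
  · refine absurd ?_ h.inat.sigP_notMem
    have h2 := mul_mem hk hk
    rwa [← pow_add, show 2 + 2 = 3 + 1 from rfl, pow_succ, sigP_pow_three, one_mul] at h2

/-- A linear element of order prime to three lies in the simple image. -/
theorem mem_of_pow {t : Equiv.Perm W8} (ht : t ∈ GN) {n : ℕ} (hn : ¬ 3 ∣ n) (htn : t ^ n = 1) : t ∈ I := by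
  obtain ⟨k, i, hi, rfl⟩ := h.inat.cases_GN ht
  rw [((h.scalar_comm (h.inat.le hi) k).symm).mul_pow] at htn
  have hk : (sigP ^ k) ^ n = 1 := by
    rw [← pow_mul]
    refine h.scalar_mem ?_
    rw [pow_mul, eq_inv_of_mul_eq_one_left htn]
    exact inv_mem (pow_mem hi n)
  have h3 : (sigP ^ k) ^ 3 = 1 := by rw [← pow_mul, mul_comm, pow_mul, sigP_pow_three, one_pow]
  have h1 : sigP ^ k = 1 := orderOf_eq_one_iff.1 (Nat.eq_one_of_dvd_coprimes
    (Nat.prime_three.coprime_iff_not_dvd.2 hn) (orderOf_dvd_of_pow_eq_one h3)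
    (orderOf_dvd_of_pow_eq_one hk))
  rwa [h1, one_mul]

theorem mem_of_pow_five {t : Equiv.Perm W8} (ht : t ∈ Γ) (h5 : t ^ 5 = 1) : t ∈ I := by
  refine h.mem_of_pow ?_ (by norm_num) h5
  by_contra hI
  have h2 := h.two ht ht hI hI
  have e : t = ((t * t) * (t * t))⁻¹ := (inv_eq_of_mul_eq_one_right (by
    rw [← h5]; simp [pow_succ, mul_assoc])).symm
  exact hI (e ▸ inv_mem (mul_mem h2 h2))

theorem inA_iff {g : Equiv.Perm W8} (hg : g ∈ I) : InA g ↔ cols g ∈ A0 := by
  refine ⟨fun ⟨k, hk⟩ => ?_, fun hc => ⟨0, by rwa [pow_zero, one_mul]⟩⟩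
  obtain ⟨a, ha, ea⟩ := h.real _ (A0_sub _ hk)
  have e : sigP ^ k * g = a :=
    perm_ext (mul_mem (pow_mem (show sigP ∈ addPerm from sigP_mem.add) k) (h.inat.add hg)) (h.inat.add ha) ea.symm
  have h1 : sigP ^ k = 1 := h.scalar_mem (by rw [eq_mul_inv_of_mul_eq e]; exact mul_mem ha (inv_mem hg))
  rwa [h1, one_mul] at hk

/-- An element of order three is conjugate into the elementary subgroup. -/
theorem conj_three_inner {x : Equiv.Perm W8} (hx : x ∈ I) (h3 : x ^ 3 = 1) :
    ∃ y ∈ I, cols (y * x * y⁻¹ : Equiv.Perm W8) ∈ A0 := by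
  classical
  haveI : Fact (Nat.Prime 3) := ⟨Nat.prime_three⟩
  obtain ⟨n, -, hn⟩ := (Nat.dvd_prime_pow Nat.prime_three).1
    (show orderOf x ∣ 3 ^ 1 by rw [pow_one]; exact orderOf_dvd_of_pow_eq_one h3)
  obtain ⟨y, hy, hyP⟩ := h.conj_P0 (Subgroup.zpowers x) (Subgroup.zpowers_le.2 hx)
    (by rw [Nat.card_zpowers, hn])
  obtain ⟨i, hi, e⟩ := List.getElem_of_mem (hyP x (Subgroup.mem_zpowers x))
  rw [← List.getD_eq_getElem _ [] hi] at e
  rw [words_ok.2.1] at hi
  by_cases h27 : i < 27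
  · exact ⟨y, hy, e ▸ A0_mem_get h27⟩
  have hk := conj_ok
  simp only [List.all_eq_true, List.mem_range, Bool.or_eq_true, decide_eq_true_eq, bne_iff_ne,
    List.any_eq_true, Bool.and_eq_true, beq_iff_eq] at hk
  set u := y * x * y⁻¹ with hu
  have hua : u ∈ addPerm := h.inat.add (mul_mem (mul_mem hy hx) (inv_mem hy))
  rcases hk i hi with (h' | h') | ⟨t, -, ⟨⟨-, ht27⟩, hok⟩, e'⟩
  · exact absurd h' h27
  · refine absurd ?_ h'
    rw [e, ← cols_mul hua, ← cols_mul hua, ← cols_one, ← mul_assoc, ← pow_two, ← pow_succ, hu,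
      conj_pow, h3, mul_one, mul_inv_cancel]
  obtain ⟨w, hw, ew⟩ := h.inat.word hok
  refine ⟨w * y, mul_mem hw hy, ?_⟩
  obtain ⟨a, ha, ea⟩ := h.real _ (A0_sub _ (A0_mem_get ht27))
  have hwa := h.inat.add hw
  have e2 : w * u = a * w := perm_ext (mul_mem hwa hua) (mul_mem (h.inat.add ha) hwa) (by
    rw [cols_mul hwa, cols_mul (h.inat.add ha), ea, ← e, ew, e'])
  rw [show w * y * x * (w * y)⁻¹ = w * u * w⁻¹ by rw [hu]; group, e2, mul_inv_cancel_right, ea]
  exact A0_mem_get ht27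

/-- A linear element of order three is conjugate into the elementary subgroup up to a scalar. -/
theorem conj_three {x : Equiv.Perm W8} (hx : x ∈ GN) (h3 : x ^ 3 = 1) :
    ∃ y ∈ I, InA (y * x * y⁻¹) := by
  obtain ⟨k, i, hi, rfl⟩ := h.inat.cases_GN hx
  have hc := h.scalar_comm (h.inat.le hi) k
  have hk3 : (sigP ^ k) ^ 3 = 1 := by rw [← pow_mul, mul_comm, pow_mul, sigP_pow_three, one_pow]
  rw [hc.symm.mul_pow, hk3, one_mul] at h3
  obtain ⟨y, hy, hyA⟩ := h.conj_three_inner hi h3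
  refine ⟨y, hy, 2 * k, ?_⟩
  rw [show y * (sigP ^ k * i) * y⁻¹ = sigP ^ k * (y * i * y⁻¹) by
    rw [← mul_assoc y, (h.scalar_comm (h.inat.le hy) k).eq]; group,
    ← mul_assoc, ← pow_add, show 2 * k + k = 3 * k by ring, pow_mul, sigP_pow_three, one_pow, one_mul]
  exact hyA

/-- An elementary subgroup as big as possible is conjugate to the standard one. -/
theorem conj_std (B : Subgroup (Equiv.Perm W8)) (hB : B ≤ Γ ⊓ GN) (hexp : ∀ b ∈ B, b ^ 3 = 1)
    (hcomm : ∀ a ∈ B, ∀ b ∈ B, Commute a b)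
    (hc : Nat.card B = 81 ∨ Nat.card B = 27 ∧ sigP ∉ Γ) :
    ∃ y ∈ I, ∀ g ∈ Γ ⊓ GN, InA (y * g * y⁻¹) ↔ g ∈ B := by
  classical
  haveI : Fact (Nat.Prime 3) := ⟨Nat.prime_three⟩
  rcases hc with hc | ⟨hc, hσ⟩
  swap
  · have hL : ∀ g ∈ Γ ⊓ GN, g ∈ I := by
      intro g hg
      obtain ⟨k, i, hi, rfl⟩ := h.inat.cases_GN hg.2
      suffices h1 : sigP ^ k = 1 by rwa [h1, one_mul]
      have hk : sigP ^ k ∈ Γ := by
        simpa using Γ.mul_mem hg.1 (Γ.inv_mem (h.le hi))
      rw [pow_eq_pow_mod k sigP_pow_three] at hk ⊢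
      have hlt := Nat.mod_lt k (by norm_num : 0 < 3)
      interval_cases k % 3
      · exact pow_zero _
      · rw [pow_one] at hk; exact absurd hk hσ
      · refine absurd ?_ hσ
        have h2 := mul_mem hk hk
        rwa [← pow_add, show 2 + 2 = 3 + 1 from rfl, pow_succ, sigP_pow_three, one_mul] at h2
    obtain ⟨y, hy, hyA⟩ := h.conj_A0 B (fun b hb => hL b (hB hb)) hc hcomm
    exact ⟨y, hy, fun g hg => (h.inA_iff (mul_mem (mul_mem hy (hL g hg)) (inv_mem hy))).trans (hyA g (hL g hg))⟩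
  -- the inner part has order at least 27
  have hrel : I.relIndex B ≤ 3 := by
    have e := (I.subgroupOf GN).card_mul_index
    rw [Nat.card_congr (Subgroup.subgroupOfEquivOfLe h.inat.le).toEquiv, h.inat.card] at e
    have hle := card_GN
    have h3 : I.relIndex GN ≤ 3 := by
      show (I.subgroupOf GN).index ≤ 3
      omega
    refine le_trans (Subgroup.relIndex_le_of_le_right (fun b hb => (hB hb).2) ?_) h3
    exact Subgroup.index_ne_zero_of_finite
  have h0 := (I.subgroupOf B).card_mul_index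
  rw [hc] at h0
  have h27 : 3 ^ 3 ∣ Nat.card ↥(I.subgroupOf B) := by
    have hd : Nat.card ↥(I.subgroupOf B) ∣ 3 ^ 4 := ⟨_, h0.symm⟩
    obtain ⟨i, -, hi⟩ := (Nat.dvd_prime_pow Nat.prime_three).1 hd
    rw [hi] at h0 ⊢
    refine pow_dvd_pow 3 ?_
    by_contra hlt
    have : 3 ^ i ≤ 3 ^ 2 := Nat.pow_le_pow_right (by norm_num) (by omega)
    have hr : (I.subgroupOf B).index ≤ 3 := hrel
    nlinarith
  obtain ⟨C, hC⟩ := Sylow.exists_subgroup_card_pow_prime 3 h27
  set B1 : Subgroup (Equiv.Perm W8) := (C.map (I.subgroupOf B).subtype).map B.subtype with hB1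
  have hB1le : B1 ≤ B ⊓ I := by
    rintro _ ⟨_, ⟨x, -, rfl⟩, rfl⟩
    exact ⟨(x : ↥B).2, x.2⟩
  have hB1c : Nat.card B1 = 27 := by
    rw [← Nat.card_congr (Subgroup.equivMapOfInjective _ _ B.subtype_injective).toEquiv,
      ← Nat.card_congr (Subgroup.equivMapOfInjective _ _ (I.subgroupOf B).subtype_injective).toEquiv, hC]
    norm_num
  obtain ⟨y, hy, hyA⟩ := h.conj_A0 B1 (fun b hb => (hB1le hb).2) hB1c
    (fun a ha b hb => hcomm a (hB1le ha).1 b (hB1le hb).1)
  have hyG : y ∈ GN := h.inat.le hy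
  have hone : ∀ b ∈ B, ∃ k : ℕ, ∃ a ∈ B1, b = sigP ^ k * a := by
    intro b hb
    obtain ⟨k, i, hi, rfl⟩ := h.inat.cases_GN (hB hb).2
    refine ⟨k, i, ?_, rfl⟩
    have hci : ∀ a ∈ B1, Commute i a := fun a ha => by
      have h1 := hcomm _ hb a (hB1le ha).1
      have h2 := (h.scalar_comm (h.inat.le (hB1le ha).2) k).symm
      show i * a = a * i
      apply mul_left_cancel (a := sigP ^ k)
      rw [← mul_assoc, h1.eq, ← mul_assoc, ← mul_assoc, h2.eq]
    have hi3 : i ^ 3 = 1 := by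
      have h3 := hexp _ hb
      rw [(h.scalar_comm (h.inat.le hi) k).symm.mul_pow, ← pow_mul, mul_comm k, pow_mul, sigP_pow_three,
        one_pow, one_mul] at h3
      exact h3
    -- `B1` with `i` is abelian, so of order at most 27
    set D := B1 ⊔ Subgroup.zpowers i with hD
    have hle : Subgroup.zpowers i ≤ Subgroup.normalizer (B1 : Set (Equiv.Perm W8)) := by
      rw [Subgroup.zpowers_le]
      exact Subgroup.mem_normalizer_fintype fun a ha => by
        show i * a * i⁻¹ ∈ B1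
        rw [(hci a ha).eq, mul_inv_cancel_right]
        exact ha
    by_contra hiB
    have hDI : D ≤ I := sup_le (fun a ha => (hB1le ha).2) (Subgroup.zpowers_le.2 hi)
    have hDp : IsPGroup 3 D := IsPGroup.to_sup_of_normal_left'
      (IsPGroup.of_card (n := 3) (by rw [hB1c]; norm_num)) (fun z => ⟨1, by
        obtain ⟨z, hz⟩ := z
        obtain ⟨n, rfl⟩ := Subgroup.mem_zpowers_iff.1 hz
        refine Subtype.ext ?_
        show (i ^ n) ^ (3 ^ 1) = 1
        rw [pow_one, ← zpow_natCast, ← zpow_mul, mul_comm, zpow_mul, zpow_natCast, hi3, one_zpow]⟩) hle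
    obtain ⟨n, hn⟩ := hDp.exists_card_eq
    have hlt : Nat.card B1 < Nat.card D := by
      refine lt_of_le_of_ne (Subgroup.card_le_of_le le_sup_left) fun e => hiB ?_
      exact (Subgroup.eq_of_le_of_card_ge (le_sup_left : B1 ≤ D) e.ge).symm ▸
        Subgroup.mem_sup_right (Subgroup.mem_zpowers i)
    obtain ⟨w, hw, hwP⟩ := h.conj_P0 D hDI hn
    obtain ⟨S, hSI, hS, -, hSin⟩ := h.exists_P0
    have hmap : D.map (MulAut.conj w).toMonoidHom ≤ S := by
      rintro _ ⟨d, hd, rfl⟩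
      exact hSin _ (mul_mem (mul_mem hw (hDI hd)) (inv_mem hw)) (hwP d hd)
    have hcard : Nat.card (D.map (MulAut.conj w).toMonoidHom) = Nat.card D :=
      (Nat.card_congr (Subgroup.equivMapOfInjective D _ (MulAut.conj w).injective).toEquiv).symm
    have heq : D.map (MulAut.conj w).toMonoidHom = S := by
      refine Subgroup.eq_of_le_of_card_ge hmap ?_
      rw [hcard, hS]
      rw [hB1c, hn] at hlt
      rw [hn]
      have : 3 < n := (Nat.pow_lt_pow_iff_right (by norm_num : 1 < 3)).1 (by simpa using hlt)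
      calc 81 = 3 ^ 4 := by norm_num
        _ ≤ 3 ^ n := Nat.pow_le_pow_right (by norm_num) this
    -- the Sylow subgroup is not abelian
    have habel : ∀ a ∈ D, ∀ b ∈ D, Commute a b := by
      have hDc : D ≤ Subgroup.centralizer (D : Set (Equiv.Perm W8)) := by
        refine sup_le (fun a ha => ?_) (Subgroup.zpowers_le.2 ?_) <;>
          rw [Subgroup.mem_centralizer_iff] <;> intro d hd <;> rw [← Subgroup.mem_centralizer_singleton_iff]
        · refine (sup_le (fun b hb' => ?_) (Subgroup.zpowers_le.2 ?_) : D ≤ Subgroup.centralizer {a}) hd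
          · exact Subgroup.mem_centralizer_singleton_iff.2 (hcomm b (hB1le hb').1 a (hB1le ha).1).eq
          · exact Subgroup.mem_centralizer_singleton_iff.2 (hci a ha).eq
        · refine (sup_le (fun b hb' => ?_) (Subgroup.zpowers_le.2 ?_) : D ≤ Subgroup.centralizer {i}) hd
          · exact Subgroup.mem_centralizer_singleton_iff.2 (hci b hb').symm.eq
          · exact Subgroup.mem_centralizer_singleton_iff.2 rfl
      exact fun a ha b hb' => (Subgroup.mem_centralizer_iff.1 (hDc hb') a ha)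
    obtain ⟨a, ha, b', hb', hab⟩ : ∃ a ∈ P0, ∃ b ∈ P0, mulM a b ≠ mulM b a := nonabelian
    obtain ⟨ga, hga, ega⟩ := h.real a ha
    obtain ⟨gb, hgb, egb⟩ := h.real b' hb'
    have hcab : Commute ga gb := by
      obtain ⟨a1, ha1, ea⟩ := (heq.symm ▸ hSin ga hga (ega.symm ▸ ha) : ga ∈ D.map (MulAut.conj w).toMonoidHom)
      obtain ⟨b1, hb1, eb⟩ := (heq.symm ▸ hSin gb hgb (egb.symm ▸ hb') : gb ∈ D.map (MulAut.conj w).toMonoidHom)
      rw [← ea, ← eb]
      exact (habel a1 ha1 b1 hb1).map _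
    refine hab ?_
    rw [← ega, ← egb, ← cols_mul (h.inat.add hga), ← cols_mul (h.inat.add hgb), hcab.eq]
  -- the scalar lies in `B`
  have hsig : sigP ∈ B := by
    have hnle : ¬ B ≤ B1 := fun hle => by
      have := Subgroup.card_le_of_le hle
      omega
    obtain ⟨b, hb, hbn⟩ := SetLike.not_le_iff_exists.1 hnle
    obtain ⟨k, a, ha, rfl⟩ := hone b hb
    have hk : sigP ^ k ∈ B := by simpa using mul_mem hb (inv_mem (hB1le ha).1)
    rw [pow_eq_pow_mod k sigP_pow_three] at hk hbn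
    have hlt := Nat.mod_lt k (by norm_num : 0 < 3)
    interval_cases k % 3
    · simp [ha] at hbn
    · rwa [pow_one] at hk
    · have h2 := mul_mem hk hk
      rwa [← pow_add, show 2 + 2 = 3 + 1 from rfl, pow_succ, sigP_pow_three, one_mul] at h2
  refine ⟨y, hy, fun g hg => ⟨fun ⟨k, hk⟩ => ?_, fun hgB => ?_⟩⟩
  · obtain ⟨a, ha, ea⟩ := h.real _ (A0_sub _ hk)
    have e : sigP ^ k * (y * g * y⁻¹) = a := perm_ext
      (mul_mem (pow_mem (show sigP ∈ addPerm from sigP_mem.add) k)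
        (mul_mem (mul_mem (h.inat.add hy) (show g ∈ addPerm from hg.2.add)) (inv_mem (h.inat.add hy)))) (h.inat.add ha) ea.symm
    have hyc := h.scalar_comm hyG k
    have e' : sigP ^ k * g = y⁻¹ * a * y := by
      rw [← e, ← mul_assoc (sigP ^ k), ← mul_assoc (sigP ^ k), ← hyc.eq]
      group
    have hin : sigP ^ k * g ∈ B1 := by
      rw [e']
      refine (hyA _ (mul_mem (mul_mem (inv_mem hy) ha) hy)).1 ?_
      rw [show y * (y⁻¹ * a * y) * y⁻¹ = a by group, ea]
      exact hk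
    have := mul_mem (inv_mem (pow_mem hsig k)) (hB1le hin).1
    rwa [inv_mul_cancel_left] at this
  · obtain ⟨k, a, ha, rfl⟩ := hone g hgB
    refine ⟨2 * k, ?_⟩
    rw [show y * (sigP ^ k * a) * y⁻¹ = sigP ^ k * (y * a * y⁻¹) by
      rw [← mul_assoc y, (h.scalar_comm hyG k).eq]; group,
      ← mul_assoc, ← pow_add, show 2 * k + k = 3 * k by ring, pow_mul, sigP_pow_three, one_pow, one_mul]
    exact (hyA a (hB1le ha).2).2 ha

end Img

end Cfsg.Agent.UThreeLocal.Two
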