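import Cfsg.Agent.Lib.UThreeLocal.Two.Orbits
import Cfsg.Agent.Lib.ThreeTransp.U62Cent.AutNatOuter

/-!
# The image on the natural module: involutions
-/

set_option autoImplicit false
set_option maxRecDepth 100000
set_option linter.unusedSectionVars false
set_option linter.style.haveILetI false

namespace Cfsg.Agent.UThreeLocal.Two

open Cfsg.Agent.ThreeTransp.U62Cent
open Cfsg.Agent.ThreeTransp.U62Cent.W8

/-- A transvection of the simple image. -/
def IsTv (I : Subgroup (Equiv.Perm W8)) (t : Equiv.Perm W8) : Prop :=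
  t ∈ I ∧ ∃ y ∈ I, ∀ v, (y * t * y⁻¹ : Equiv.Perm W8) v = N.a0 v

theorem a0_apply (v : W8) : N.a0 v = tv (W8.mk 5) v := rfl

theorem perp_lt : ∀ v : W8, bb v v = false ∧ (qe true v = false → bb v (W8.sig v) = false) := by decide +kernel

/-- two transvections at nonorthogonal points do not commute -/
theorem tv_move {p r : W8} (hp : qe true p = false) (h0 : p ≠ 0) (hb : bb p r = false)
    (hs : bb p (W8.sig r) = true) : tv p (tv r p) ≠ tv r (tv p p) := by
  obtain ⟨e1, e2⟩ := perp_lt p
  have e3 : bb r (W8.sig p) = true := by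
    have h : bb r (W8.sig p) = bb (W8.sig r) (W8.sig (W8.sig p)) := (bb_sig _ _).symm
    rw [h, sig_sig, bb_add_right, bb_sig, bb_comm r, hb, bb_comm (W8.sig r), hs, Bool.false_xor]
  have a1 : tv r p = p + r := by simp [tv, hb, hs]
  have a2 : tv p p = p := by simp [tv, e1, e2 hp]
  have a3 : tv p r = r + p := by simp [tv, bb_comm r p, hb, e3]
  rw [a1, a2, a1, tv_add, a2, a3, add_left_comm, W8.add_self, add_zero]
  exact fun e => h0 (right_eq_add.1 e)

namespace Img

variable {I Γ : Subgroup (Equiv.Perm W8)} (h : Img I Γ)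

include h

theorem tv_pts {t : Equiv.Perm W8} (ht : IsTv I t) : ∃ p ∈ pts, ∀ v, t v = tv p v := by
  obtain ⟨-, y, hy, e⟩ := ht
  have hyi : IsIso true true (y⁻¹ : Equiv.Perm W8) := h.inat.le (inv_mem hy)
  have e' : ∀ v, t v = tv ((y⁻¹ : Equiv.Perm W8) (W8.mk 5)) v := by
    intro v
    have := congrArg (y⁻¹ : Equiv.Perm W8) (e (y v))
    rw [a0_apply, tv_conj hyi] at this
    simpa using this
  rcases N.to_pts ((y⁻¹ : Equiv.Perm W8) (W8.mk 5)) with h0 | h0 | ⟨p, hp, ep⟩
  · refine absurd ((y⁻¹ : Equiv.Perm W8).injective (h0.trans hyi.map_zero.symm)) ?_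
    exact reps.2.2.2
  · rw [hyi.q, reps.2.1] at h0
    exact absurd h0 (by decide)
  · exact ⟨p, hp, fun v => (e' v).trans
      (W8.basis_add v (tv_add _) (tv_add _) (List.map_inj_left.1 ep))⟩

/-- The product of two commuting transvections is no transvection. -/
theorem tv_mul {t s : Equiv.Perm W8} (ht : IsTv I t) (hs : IsTv I s) (hc : Commute t s)
    (hne : t ≠ s) : ¬ IsTv I (t * s) := by
  intro hts
  obtain ⟨p, hp, ep⟩ := h.tv_pts ht
  obtain ⟨r, hr, er⟩ := h.tv_pts hs
  obtain ⟨q, hq, eq⟩ := h.tv_pts hts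
  rcases two_transvections p hp r hr with e | e | e
  · exact hne (Equiv.ext fun v => by rw [ep, er, e])
  · refine absurd e (Bool.eq_false_iff.not_left.2 ?_)
    simp only [N.com, List.all_eq_true, beq_iff_eq]
    intro v _
    rw [← er v, ← ep (s v), ← ep v, ← er (t v)]
    exact congrArg (fun g : Equiv.Perm W8 => g v) hc.eq
  · refine e q hq (List.map_congr_left fun v _ => ?_)
    rw [← er v, ← ep (s v), ← eq v]
    rfl

theorem tv_fix {t : Equiv.Perm W8} (ht : IsTv I t) : {v : W8 | t v = v}.ncard = 64 := by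
  obtain ⟨-, y, -, e⟩ := ht
  rw [← ncard_fix_conj y t]
  simp only [e]
  exact N.ncard_fix0

/-- At a transvection two standard elements of order three cover the fixed space modulo the line. -/
theorem tv_pair_std {t : Equiv.Perm W8} (ht : IsTv I t) : ∃ y ∈ I, ∃ d₁ d₂ : Equiv.Perm W8,
    (cols (y * d₁ * y⁻¹ : Equiv.Perm W8) = A0.getD 12 [] ∧ cols (y * d₂ * y⁻¹ : Equiv.Perm W8) = A0.getD 13 []) ∧
    d₁ ∈ I ∧ d₂ ∈ I ∧ d₁ ^ 3 = 1 ∧ d₂ ^ 3 = 1 ∧ d₁ ≠ 1 ∧ d₂ ≠ 1 ∧ Commute d₁ t ∧ Commute d₂ t ∧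
    ∀ c, t c = c → ∃ w x, t x = x ∧ d₁ x = x ∧ d₂ (t w + w + x + c) = t w + w + x + c := by
  obtain ⟨htI, y, hy, e⟩ := ht
  obtain ⟨hpair, hspan⟩ := transvection_pair
  obtain ⟨m1, n1, c1⟩ := hpair _ List.mem_cons_self
  obtain ⟨m2, n2, c2⟩ := hpair _ (List.mem_cons_of_mem _ List.mem_cons_self)
  obtain ⟨a, ha, ea⟩ := h.real _ (A0_sub _ m1)
  obtain ⟨b, hb, eb⟩ := h.real _ (A0_sub _ m2)
  set u : Equiv.Perm W8 := y * t * y⁻¹ with hu
  have huA : u ∈ addPerm := h.inat.add (mul_mem (mul_mem hy htI) (inv_mem hy))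
  have hcu : cols u = cols N.a0 := List.map_congr_left fun v _ => e v
  have hback : y⁻¹ * u * y = t := by rw [hu]; group
  have key : ∀ {z : Equiv.Perm W8}, z ∈ I → mulM (cols z) (cols N.a0) = mulM (cols N.a0) (cols z) →
      Commute (y⁻¹ * z * y) t := by
    intro z hz hcz
    have hc := (commute_of_cols (h.inat.add hz) huA (by rw [hcu]; exact hcz)).map
      (MulAut.conj y⁻¹).toMonoidHom
    simp only [MulEquiv.coe_toMonoidHom, MulAut.conj_apply, inv_inv] at hc
    rwa [hback] at hc
  refine ⟨y, hy, y⁻¹ * a * y, y⁻¹ * b * y,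
    ⟨by rw [show y * (y⁻¹ * a * y) * y⁻¹ = a by group, ea], by rw [show y * (y⁻¹ * b * y) * y⁻¹ = b by group, eb]⟩,
    mul_mem (mul_mem (inv_mem hy) ha) hy,
    mul_mem (mul_mem (inv_mem hy) hb) hy, ?_, ?_, ?_, ?_, key ha (by rw [ea]; exact c1),
    key hb (by rw [eb]; exact c2), fun c hc => ?_⟩
  · nth_rw 2 [← inv_inv y]
    rw [conj_pow, h.pow_three_of_A0 ha (ea ▸ m1)]; simp
  · nth_rw 2 [← inv_inv y]
    rw [conj_pow, h.pow_three_of_A0 hb (eb ▸ m2)]; simp
  · nth_rw 2 [← inv_inv y]
    rw [Ne, conj_eq_one_iff]; rintro rfl; exact n1 (ea.symm.trans cols_one)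
  · nth_rw 2 [← inv_inv y]
    rw [Ne, conj_eq_one_iff]; rintro rfl; exact n2 (eb.symm.trans cols_one)
  have hyc : y c ∈ N.C0 := (N.C0_iff _).1 (by rw [← e, perm_conj_apply, hc])
  obtain ⟨l, hl, x, hx, hxa, hxb⟩ := hspan _ hyc
  obtain ⟨w, hw⟩ := N.L0_iff.2 l hl
  rw [fixL, List.mem_filter, beq_iff_eq, ← ea, app_cols (h.inat.add ha)] at hx
  rw [← hcu, app_cols huA] at hxa
  rw [← eb, app_cols (h.inat.add hb), ← hw, ← e] at hxb
  refine ⟨y.symm w, y.symm x, ?_, ?_, ?_⟩
  · rw [← hback]; simp [hxa]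
  · simp [hx.2]
  · refine y.injective ?_
    have hy' : ∀ v z, y (v + z) = y v + y z := h.inat.add hy
    simp only [Equiv.Perm.mul_apply, Equiv.Perm.inv_def, Equiv.apply_symm_apply, hy']
    rw [← perm_conj_apply y t, ← hu, Equiv.apply_symm_apply]
    exact hxb

/-- At a transvection two elements of order three cover the fixed space modulo the line. -/
theorem tv_pair {t : Equiv.Perm W8} (ht : IsTv I t) : ∃ d₁ d₂ : Equiv.Perm W8,
    d₁ ∈ I ∧ d₂ ∈ I ∧ d₁ ^ 3 = 1 ∧ d₂ ^ 3 = 1 ∧ d₁ ≠ 1 ∧ d₂ ≠ 1 ∧ Commute d₁ t ∧ Commute d₂ t ∧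
    ∀ c, t c = c → ∃ w x, t x = x ∧ d₁ x = x ∧ d₂ (t w + w + x + c) = t w + w + x + c :=
  let ⟨_, _, d₁, d₂, _, hd⟩ := h.tv_pair_std ht
  ⟨d₁, d₂, hd⟩

/-- An involution which is no transvection has full commutator space and commutes with an element
of order three. -/
theorem inv_cases {t : Equiv.Perm W8} (ht : t ∈ Γ) (h2 : t * t = 1) (hne : t ≠ 1) :
    IsTv I t ∨ (∃ d ∈ I, d ^ 3 = 1 ∧ d ≠ 1 ∧ Commute d t) ∧ ∀ v, t v = v → ∃ w, t w + w = v := by
  by_cases hG : t ∈ GN
  · have hI : t ∈ I := h.mem_of_pow hG (n := 2) (by norm_num) (by rw [pow_two]; exact h2)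
    obtain ⟨y, hy, e | e⟩ := h.inat.classes hI h2 hne
    · exact Or.inl ⟨hI, y, hy, e⟩
    refine Or.inr ⟨?_, fun v hv => ?_⟩
    · obtain ⟨m, n, c⟩ := other_class
      obtain ⟨a, ha, ea⟩ := h.real _ (A0_sub _ m)
      set u : Equiv.Perm W8 := y * t * y⁻¹ with hu
      have huA : u ∈ addPerm := h.inat.add (mul_mem (mul_mem hy hI) (inv_mem hy))
      have hcu : cols u = cols N.a1 := List.map_congr_left fun v _ => e v
      have hc := (commute_of_cols (h.inat.add ha) huA (by rw [ea, hcu]; exact c)).map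
        (MulAut.conj y⁻¹).toMonoidHom
      simp only [MulEquiv.coe_toMonoidHom, MulAut.conj_apply, inv_inv] at hc
      rw [show y⁻¹ * u * y = t by rw [hu]; group] at hc
      refine ⟨_, mul_mem (mul_mem (inv_mem hy) ha) hy, ?_, ?_, hc⟩
      · nth_rw 2 [← inv_inv y]
        rw [conj_pow, h.pow_three_of_A0 ha (ea ▸ m)]; simp
      · nth_rw 2 [← inv_inv y]
        rw [Ne, conj_eq_one_iff]; rintro rfl; exact n (ea.symm.trans cols_one)
    · obtain ⟨w, hw⟩ := (N.L1_iff.2.2 (y v) ((N.L1_iff.1 _).1 (by rw [← e, perm_conj_apply, hv]))).2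
      refine ⟨y.symm w, y.injective ?_⟩
      rw [h.inat.add hy, ← perm_conj_apply y t, Equiv.apply_symm_apply, e, hw]
  · have hs : N.Semi t := ⟨h.add ht, (h.iso t ht).q, fun v => by
      rw [← Equiv.Perm.mul_apply, h2]; rfl, h.semi t ht hG⟩
    refine Or.inr ⟨?_, fun v hv => ⟨W8.sig v, hs.fix_im hv⟩⟩
    -- two singular fixed vectors spanning a hyperbolic pair
    let Fs : AddSubgroup W8 :=
      { carrier := {v | t v = v}
        zero_mem' := additive_zero (h.add ht)
        add_mem' := fun {a b} ha hb => by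
          show t (a + b) = a + b
          rw [h.add ht, ha, hb]
        neg_mem' := fun {a} ha => ha }
    have hFc : 16 ≤ Nat.card Fs := by
      choose a b ha hb hab using hs.decomp
      let f : W8 → Fs × Fs := fun v => (⟨a v, ha v⟩, ⟨b v, hb v⟩)
      have hf : Function.Injective f := fun v w e => by
        have h1 : a v = a w := congrArg (fun x => ((x.1 : Fs) : W8)) e
        have h2' : b v = b w := congrArg (fun x => ((x.2 : Fs) : W8)) e
        rw [hab v, hab w, h1, h2']
      have := Nat.card_le_card_of_injective f hf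
      rw [Nat.card_prod, show Nat.card W8 = 256 from Nat.card_fin 256] at this
      nlinarith
    obtain ⟨p, hpt, hpq, r, hrt, hrq, hpr⟩ : ∃ p, t p = p ∧ qe true p = false ∧
        ∃ r, t r = r ∧ qe true r = false ∧ bb p (W8.sig r) = true := by
      by_contra hno
      push Not at hno
      set K := {v : W8 | t v = v ∧ qe true v = false} with hK
      have hbb : ∀ a ∈ K, ∀ b ∈ K, bb (W8.sig a) b = false := fun a ha b hb => by
        have := hno b hb.1 hb.2 a ha.1 ha.2
        rw [bb_comm] at this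
        simpa using this
      have hqadd : ∀ a b, t a = a → t b = b → qe true (a + b) = xor (qe true a) (qe true b) :=
        fun a b ha hb => by rw [qe_add, hs.fix_bb ha hb, Bool.xor_false]
      have hsmall : K.ncard ≤ 2 ∧ (Fs : Set W8).ncard ≤ 2 * K.ncard := by
        by_cases hex : ∃ c, t c = c ∧ qe true c = true
        · obtain ⟨c, hc, hcq⟩ := hex
          constructor
          · refine le_trans (Set.ncard_le_ncard_of_injOn (fun a => bb (W8.sig a) c)
              (t := (Set.univ : Set Bool)) (fun a _ => trivial) ?_ (Set.toFinite _)) (by simp)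
            intro a ha b hb e
            have hab : a + b ∈ K := ⟨by rw [h.add ht, ha.1, hb.1], by rw [hqadd a b ha.1 hb.1, ha.2, hb.2]; rfl⟩
            refine W8.eq_of_add (hs.beta_nondeg hab.1 fun w hw => ?_)
            cases hq : qe true w
            · exact hbb _ hab w ⟨hw, hq⟩
            · have h1 := hbb _ hab (w + c) ⟨by rw [h.add ht, hw, hc], by rw [hqadd w c hw hc, hq, hcq]; rfl⟩
              have h0 : bb (W8.sig (a + b)) c = false := by
                rw [W8.sig_add, bb_add_left, show bb (W8.sig a) c = bb (W8.sig b) c from e, Bool.xor_self]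
              rw [bb_add_right, h0, Bool.xor_false] at h1
              exact h1
          · refine le_trans (Set.ncard_le_ncard (t := K ∪ (· + c) '' K) (fun v hv => ?_) (Set.toFinite _))
              ((Set.ncard_union_le _ _).trans (by have := Set.ncard_image_le (f := (· + c)) (s := K); omega))
            have hv' : t v = v := hv
            cases hq : qe true v
            · exact Or.inl ⟨hv', hq⟩
            · refine Or.inr ⟨v + c, ⟨by rw [h.add ht, hv', hc], by rw [hqadd v c hv' hc, hq, hcq]; rfl⟩, ?_⟩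
              show v + c + c = v
              rw [add_assoc, W8.add_self, add_zero]
        · push Not at hex
          have hall : ∀ w, t w = w → w ∈ K := fun w hw => ⟨hw, by simpa using hex w hw⟩
          have h0 : ∀ a ∈ K, a = 0 := fun a ha =>
            hs.beta_nondeg ha.1 fun w hw => hbb a ha w (hall w hw)
          have hle : K.ncard ≤ 1 := (Set.ncard_le_one (Set.toFinite _)).2 fun a ha b hb => by
            rw [h0 a ha, h0 b hb]
          refine ⟨by omega, le_trans (Set.ncard_le_ncard (t := K) (fun v hv => hall v hv) (Set.toFinite _)) ?_⟩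
          omega
      have e : Nat.card Fs = (Fs : Set W8).ncard := Nat.card_coe_set_eq _
      omega
    have hp0 : p ≠ 0 := by rintro rfl; rw [bb_zero_left] at hpr; exact absurd hpr (by decide)
    have hr0 : r ≠ 0 := by rintro rfl; rw [show W8.sig 0 = 0 by decide +kernel, bb_zero_right] at hpr; exact absurd hpr (by decide)
    have hb := hs.fix_bb hpt hrt
    have htv : ∀ {x : W8}, t x = x → x ≠ 0 → qe true x = false →
        ∃ x' ∈ pts, (∀ v, tv x v = tv x' v) ∧ ∀ v, t (tv x' v) = tv x' (t v) := by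
      intro x hx hx0 hxq
      rcases N.to_pts x with e | e | ⟨x', hx', e⟩
      · exact absurd e hx0
      · rw [hxq] at e; exact absurd e (by decide)
      · have he : ∀ v, tv x v = tv x' v := fun v => W8.basis_add v (tv_add _) (tv_add _) (List.map_inj_left.1 e)
        refine ⟨x', hx', he, fun v => ?_⟩
        rw [← he, ← he]
        have hσ : t (W8.sig x) = W8.sig x + x := by rw [hs.semi, hx, sig_sig]
        have hb1 : bb (t v) x = bb v x := by conv_lhs => rw [← hx, hs.bb_eq]
        have hb2 : bb (t v) (W8.sig x) = xor (bb v (W8.sig x)) (bb v x) := by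
          have h' := hs.bb_eq v (W8.sig x + x)
          rw [h.add ht, hσ, hx, add_assoc, W8.add_self, add_zero] at h'
          rw [h', bb_add_right]
        simp only [tv, hb1, hb2]
        have hta : ∀ a b, t (a + b) = t a + t b := h.add ht
        cases bb v x <;> cases bb v (W8.sig x) <;> simp [hta, hx, hσ, add_assoc, W8.add_self]
    obtain ⟨p', hp', ep, hcp⟩ := htv hpt hp0 hpq
    obtain ⟨r', hr', er, hcr⟩ := htv hrt hr0 hrq
    have hne' : tv p' (tv r' p) ≠ tv r' (tv p' p) := by
      rw [← ep, ← er, ← ep, ← er]; exact tv_move hpq hp0 hb hpr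
    have hbr : braid p' r' = true := (N.com_or_braid p' hp' r' hr').resolve_left fun e =>
      hne' (N.com_apply e p)
    haveI := h.inat.simple
    have hP : tvP p' hp' ∈ I := tv_mem_of_simple h.inat.le h.inat.card p' hp'
    have hR : tvP r' hr' ∈ I := tv_mem_of_simple h.inat.le h.inat.card r' hr'
    refine ⟨tvP p' hp' * tvP r' hr', mul_mem hP hR, ?_, ?_, ?_⟩
    · refine Equiv.ext fun v => ?_
      simp only [pow_succ, pow_zero, one_mul, Equiv.Perm.mul_apply, tvP_apply, Equiv.Perm.one_apply]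
      rw [N.braid_apply hbr, (tv_inv r' hr' _).1, (tv_inv p' hp' _).1, (tv_inv r' hr' _).1]
    · intro e
      refine hne' ?_
      have h1 : ∀ v, tv p' (tv r' v) = v := fun v => congrArg (fun g : Equiv.Perm W8 => g v) e
      rw [h1]
      conv_lhs => rw [← (tv_inv r' hr' p).1]
      exact congrArg (tv r') ((h1 (tv r' p)).symm.trans (by rw [(tv_inv r' hr' p).1]))
    · refine Equiv.ext fun v => ?_
      simp only [Equiv.Perm.mul_apply, tvP_apply]
      rw [hcp, hcr]

end Img

end Cfsg.Agent.UThreeLocal.Two
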