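import Cfsg.Agent.Lib.UThreeLocal.Two.Image
import Cfsg.Agent.Lib.ThreeTransp.U62Cent.NatShape

/-!
# The image on the natural module: orbits, fixed spaces and hyperplane type subspaces
-/

set_option autoImplicit false
set_option maxRecDepth 100000
set_option linter.unusedSectionVars false
set_option linter.style.haveILetI false

namespace Cfsg.Agent.UThreeLocal.Two

open Cfsg.Agent.ThreeTransp.U62Cent
open Cfsg.Agent.ThreeTransp.U62Cent.W8

theorem A0_exp : ∀ A ∈ A0, mulM A (mulM A A) = cols id := by decide +kernel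

/-- the scalar times a standard element, as a matrix -/
def scal (j : ℕ) (a : List W8) : List W8 := Nat.iterate (List.map W8.sig) j a

/-- With a scalar, an element of order three fixes at most sixteen vectors or is a reflection. -/
theorem fix_scalar : ∀ j < 3, ∀ a ∈ A0, scal j a = cols id ∨ (fixL (scal j a)).length ≤ 16 ∨
    ((fixL (scal j a)).length = 64 ∧ ∃ u ∈ [mk 1, mk 4, mk 16, mk 64],
      ((span basis).all fun w => (qe true w != qe true u) ||
        !((fixL (scal j a)).all fun f => bb w f == bb u f) ||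
        (w == u) || (w == app (scal j a) u) || (w == app (scal j a) (app (scal j a) u))) = true ∧
      (basis.all fun b => (fixL (scal j a)).any fun f =>
        (b == f) || (b == f + u) || (b == f + W8.sig u) || (b == f + W8.sig (W8.sig u))) = true) := by
  decide +kernel

theorem cols_scal {g : Equiv.Perm W8} : ∀ j, cols (sigP ^ j * g : Equiv.Perm W8) = scal j (cols g)
  | 0 => by rw [pow_zero, one_mul]; rfl
  | j + 1 => by
    rw [pow_succ', mul_assoc, scal, Function.iterate_succ_apply', ← scal, ← cols_scal j]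
    simp only [cols, List.map_map]
    rfl

theorem nonsingular_count : ((span basis).filter fun v => qe true v).length = 120 := by decide +kernel

theorem ncard_nonsingular : {v : W8 | qe true v = true}.ncard = 120 := by
  rw [← nonsingular_count, ← List.toFinset_card_of_nodup (span_basis_nodup.filter _), ← Set.ncard_coe_finset]
  congr 1
  ext v
  simp [span_all v]

theorem perm_conj_apply (y g : Equiv.Perm W8) (v : W8) : (y * g * y⁻¹ : Equiv.Perm W8) (y v) = y (g v) := by
  simp

theorem ncard_fix_conj (y g : Equiv.Perm W8) :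
    {v : W8 | (y * g * y⁻¹ : Equiv.Perm W8) v = v}.ncard = {v : W8 | g v = v}.ncard := by
  rw [show {v : W8 | (y * g * y⁻¹ : Equiv.Perm W8) v = v} = y '' {v : W8 | g v = v} from ?_,
    Set.ncard_image_of_injective _ y.injective]
  ext v
  simp only [Set.mem_setOf_eq, Set.mem_image]
  constructor
  · intro e
    exact ⟨y.symm v, by simpa [Equiv.eq_symm_apply] using e, by simp⟩
  · rintro ⟨u, hu, rfl⟩
    rw [perm_conj_apply, hu]

namespace Img

variable {I Γ : Subgroup (Equiv.Perm W8)} (h : Img I Γ)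

include h

theorem trans {v : W8} (hv : v ≠ 0) : ∃ g ∈ I, g (if qe true v then W8.mk 1 else W8.mk 5) = v := by
  cases hq : qe true v
  · exact h.inat.trans5 hv hq
  · obtain e | ⟨w, -, hok, hw⟩ := orbit_one v
    · rw [hq] at e; exact absurd e (by decide)
    · obtain ⟨g, hg, e⟩ := h.inat.word hok
      exact ⟨g, hg, by rw [if_pos rfl, e, hw]⟩

theorem pow_three_of_A0 {g : Equiv.Perm W8} (hg : g ∈ I) (hgA : cols g ∈ A0) : g ^ 3 = 1 := by
  refine perm_ext (pow_mem (h.inat.add hg) 3) (one_mem _) ?_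
  rw [pow_succ', pow_two, cols_mul (h.inat.add hg), cols_mul (h.inat.add hg), A0_exp _ hgA, cols_one]

/-- A nonzero vector is fixed by an element of order three. -/
theorem vec_three {v : W8} (hv : v ≠ 0) : ∃ d ∈ I, d ^ 3 = 1 ∧ d ≠ 1 ∧ d v = v := by
  obtain ⟨g, hg, e⟩ := h.trans hv
  obtain ⟨a, ha, hne, hfix⟩ := vec_fixed (if qe true v then W8.mk 1 else W8.mk 5) (by
    cases qe true v <;> simp)
  obtain ⟨d, hd, rfl⟩ := h.real a (A0_sub a ha)
  refine ⟨g * d * g⁻¹, mul_mem (mul_mem hg hd) (inv_mem hg), ?_, ?_, ?_⟩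
  · rw [conj_pow, h.pow_three_of_A0 hd ha, mul_one, mul_inv_cancel]
  · rw [Ne, conj_eq_one_iff]
    rintro rfl
    exact hne cols_one
  · rw [← e, perm_conj_apply, ← app_cols (h.inat.add hd), hfix]

/-- An element of order three fixes at most sixteen vectors. -/
theorem fix_three {d : Equiv.Perm W8} (hd : d ∈ I) (h3 : d ^ 3 = 1) (hne : d ≠ 1) :
    {v : W8 | d v = v}.ncard ≤ 16 := by
  obtain ⟨y, hy, hyA⟩ := h.conj_three_inner hd h3
  rw [← ncard_fix_conj y d]
  have hadd := h.inat.add (mul_mem (mul_mem hy hd) (inv_mem hy))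
  rcases fix_small _ hyA with e | e
  · exact absurd (conj_eq_one_iff.1 (perm_ext hadd (one_mem _) (e.trans cols_one.symm))) hne
  refine le_trans ?_ (le_trans (List.toFinset_card_le _) e)
  rw [← Set.ncard_coe_finset]
  refine Set.ncard_le_ncard (fun v hv => ?_) (Set.toFinite _)
  rw [List.coe_toFinset, Set.mem_setOf_eq, fixL, List.mem_filter, beq_iff_eq, app_cols hadd]
  exact ⟨span_all v, hv⟩

/-- An element of order five fixes no nonzero vector. -/
theorem fix_five {t : Equiv.Perm W8} (ht : t ∈ Γ) (h5 : t ^ 5 = 1) {v : W8} (hv : v ≠ 0)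
    (hfix : t v = v) : t = 1 := by
  by_contra hne
  have htI := h.mem_of_pow_five ht h5
  haveI : Fact (Nat.Prime 5) := ⟨by norm_num⟩
  have horb : MulAction.orbit ↥I v = {w : W8 | qe true w = qe true v ∧ w ≠ 0} := by
    ext w
    constructor
    · rintro ⟨g, rfl⟩
      exact ⟨(h.inat.le g.2).q v, fun e => hv ((g : Equiv.Perm W8).injective
        ((show (g : Equiv.Perm W8) v = 0 from e).trans (additive_zero (h.inat.add g.2)).symm))⟩
    · rintro ⟨hq, hw⟩
      obtain ⟨g, hg, e⟩ := h.trans hw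
      obtain ⟨g', hg', e'⟩ := h.trans hv
      rw [hq] at e
      refine ⟨⟨g * g'⁻¹, mul_mem hg (inv_mem hg')⟩, ?_⟩
      show (g * g'⁻¹ : Equiv.Perm W8) v = w
      rw [← e', ← e]
      simp
  have hc := (MulAction.stabilizer ↥I v).card_mul_index
  rw [MulAction.index_stabilizer, horb, h.inat.card] at hc
  have hd : 5 ∣ Nat.card ↥(MulAction.stabilizer ↥I v) := by
    have ho : orderOf (⟨t, htI⟩ : ↥I) = 5 := orderOf_eq_prime (Subtype.ext (by simpa using h5))
      fun e => hne (congrArg Subtype.val e)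
    rw [← ho]
    exact Subgroup.orderOf_dvd_natCard _ (show (⟨t, htI⟩ : ↥I) • v = v from hfix)
  cases hq : qe true v
  · rw [hq, N.ncard_singular] at hc; omega
  · have e : {w : W8 | qe true w = qe true v ∧ w ≠ 0} = {w : W8 | qe true w = true} := by
      ext w
      rw [Set.mem_setOf_eq, Set.mem_setOf_eq, hq, and_iff_left_iff_imp]
      rintro h' rfl
      rw [qe_zero] at h'
      exact absurd h' (by decide)
    rw [e, ncard_nonsingular] at hc; omega

theorem semi_fix {t : Equiv.Perm W8} (ht : t ∈ Γ) (hI : t ∉ GN) :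
    {v : W8 | t v = v}.ncard ≤ 16 := by
  set F := {v : W8 | t v = v} with hF
  have hadd : ∀ a b, t (a + b) = t a + t b := h.add ht
  have hsemi := h.semi t ht hI
  let f : ↥(F ×ˢ F : Set (W8 × W8)) → W8 := fun p => p.1.1 + W8.sig p.1.2
  have hf : Function.Injective f := by
    rintro ⟨⟨a, b⟩, ha, hb⟩ ⟨⟨c, d⟩, hc, hd⟩ e
    have ha' : t a = a := ha
    have hb' : t b = b := hb
    have hc' : t c = c := hc
    have hd' : t d = d := hd
    change a + W8.sig b = c + W8.sig d at e
    have e' := congrArg t e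
    rw [hadd, hadd, hsemi, hsemi, ha', hb', hc', hd', sig_sig, sig_sig, ← add_assoc, ← add_assoc, e] at e'
    obtain rfl : b = d := add_left_cancel e'
    obtain rfl : a = c := add_right_cancel e
    rfl
  have h1 := Nat.card_le_card_of_injective f hf
  rw [Nat.card_coe_set_eq, Set.ncard_prod, show Nat.card W8 = 256 from Nat.card_fin 256] at h1
  nlinarith

/-- The hyperplane type subspaces. -/
theorem exists_hyp {v : W8} (hv : v ≠ 0) : ∃ (J : Set W8) (e₁ e₂ : Equiv.Perm W8),
    (∀ x ∈ J, bb x v = false) ∧ e₁ ∈ I ∧ e₂ ∈ I ∧ e₁ ^ 3 = 1 ∧ e₂ ^ 3 = 1 ∧ Commute e₁ e₂ ∧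
    (∀ i < 3, ∀ j < 3, e₁ ^ i * e₂ ^ j = 1 → i = 0 ∧ j = 0) ∧
    (∀ x ∈ J, e₁ x ∈ J ∧ e₂ x ∈ J) ∧ ∀ t ∈ Γ, (∀ x ∈ J, t x = x) → t = 1 := by
  obtain ⟨g, hg, e⟩ := h.trans hv
  obtain ⟨t, ht, htv⟩ : ∃ t ∈ hyp, t.1 = if qe true v then W8.mk 1 else W8.mk 5 := by
    cases qe true v <;> simp [hyp]
  obtain ⟨m1, m2, hlen, hnd, hind, hmem⟩ := hyp_ok t ht
  obtain ⟨a, ha, ea⟩ := h.real _ (A0_sub _ m1)
  obtain ⟨b, hb, eb⟩ := h.real _ (A0_sub _ m2)
  have haA := h.inat.add ha
  have hbA := h.inat.add hb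
  refine ⟨g '' {x | x ∈ t.2.1}, g * a * g⁻¹, g * b * g⁻¹, ?_, mul_mem (mul_mem hg ha) (inv_mem hg),
    mul_mem (mul_mem hg hb) (inv_mem hg), ?_, ?_, ?_, ?_, ?_, ?_⟩
  · rintro _ ⟨x, hx, rfl⟩
    rw [← e, ← htv, (h.inat.le hg).bb]
    exact (hmem x hx).1
  · rw [conj_pow, h.pow_three_of_A0 ha (ea ▸ m1), mul_one, mul_inv_cancel]
  · rw [conj_pow, h.pow_three_of_A0 hb (eb ▸ m2), mul_one, mul_inv_cancel]
  · have hc : Commute a b := commute_of_cols haA hbA (by rw [ea, eb]; exact (A0_mul _ m1 _ m2).2)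
    exact hc.map (MulAut.conj g).toMonoidHom
  · intro i hi j hj hij
    have hab : a ^ i * b ^ j = 1 := by
      rwa [conj_pow, conj_pow, show g * a ^ i * g⁻¹ * (g * b ^ j * g⁻¹) = g * (a ^ i * b ^ j) * g⁻¹ by
        group, conj_eq_one_iff] at hij
    have hcp : ∀ {c : Equiv.Perm W8}, c ∈ addPerm → ∀ n : ℕ,
        cols (c ^ n : Equiv.Perm W8) = Nat.iterate (mulM (cols c)) n (cols id) := by
      intro c hc n
      induction n with
      | zero => rw [pow_zero, cols_one, Function.iterate_zero_apply]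
      | succ n ih => rw [pow_succ', cols_mul hc, ih, Function.iterate_succ_apply']
    refine (hind i hi j hj).resolve_right fun hne => hne ?_
    rw [← ea, ← eb, ← hcp haA, ← hcp hbA, ← cols_mul (pow_mem haA i), hab, cols_one]
  · rintro _ ⟨x, hx, rfl⟩
    rw [perm_conj_apply, perm_conj_apply, ← app_cols haA, ← app_cols hbA, ea, eb]
    exact ⟨Set.mem_image_of_mem _ (hmem x hx).2.1, Set.mem_image_of_mem _ (hmem x hx).2.2⟩
  · intro s hs hfix
    by_cases hsI : s ∈ GN
    · refine Equiv.ext fun w => ?_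
      refine W8.basis_add w (f := s) (g := fun z => z) (h.add hs) (fun _ _ => rfl) ?_
      intro u _
      obtain ⟨c, hc⟩ : ∃ c, g c = u := ⟨g.symm u, by simp⟩
      rw [← hc]
      refine W8.basis_add c (f := fun z => s (g z)) (g := fun z => g z)
        (fun a b => by rw [h.inat.add hg, h.add hs]) (h.inat.add hg) ?_
      intro w' hw'
      obtain ⟨x, hx, y, hy, rfl⟩ := hyp_span t ht w' hw'
      rw [h.inat.add hg, h.add hs, (h.inat.le hg).sig rfl, hsI.sig rfl,
        hfix _ (Set.mem_image_of_mem _ hx), hfix _ (Set.mem_image_of_mem _ hy)]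
    · exfalso
      have h1 := h.semi_fix hs hsI
      have h2 : t.2.1.length ≤ {v : W8 | s v = v}.ncard := by
        rw [← List.toFinset_card_of_nodup hnd, ← Set.ncard_coe_finset, ← Set.ncard_image_of_injective _ g.injective]
        refine Set.ncard_le_ncard ?_ (Set.toFinite _)
        rintro _ ⟨x, hx, rfl⟩
        exact hfix _ (Set.mem_image_of_mem _ (List.mem_toFinset.1 hx))
      omega

/-- A linear element of order three fixes few vectors or is a reflection. -/
theorem fix_ref {t : Equiv.Perm W8} (ht : t ∈ Γ) (hG : t ∈ GN) (h3 : t ^ 3 = 1) (hne : t ≠ 1) :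
    {v : W8 | t v = v}.ncard ≤ 16 ∨ ({v : W8 | t v = v}.ncard = 64 ∧
      (∀ s ∈ Γ, (∀ x, t x = x → s x = x) → s ∈ Subgroup.zpowers t) ∧
      ∃ e₁ e₂ : Equiv.Perm W8, e₁ ∈ I ∧ e₂ ∈ I ∧ e₁ ^ 3 = 1 ∧ e₂ ^ 3 = 1 ∧ Commute e₁ e₂ ∧
        (∀ i < 3, ∀ j < 3, e₁ ^ i * e₂ ^ j = 1 → i = 0 ∧ j = 0) ∧ Commute e₁ t ∧ Commute e₂ t) := by
  obtain ⟨y, hy, k, hk⟩ := h.conj_three hG h3
  obtain ⟨a, ha, ea⟩ := h.real _ (A0_sub _ hk)
  have hya := h.inat.add hy
  set x := y * t * y⁻¹ with hx
  have hxA : x ∈ addPerm := mul_mem (mul_mem hya (show t ∈ addPerm from hG.add)) (inv_mem hya)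
  have e : sigP ^ k * x = a := perm_ext
    (mul_mem (pow_mem (show sigP ∈ addPerm from sigP_mem.add) k) hxA) (h.inat.add ha) ea.symm
  obtain ⟨j, hj, hxj⟩ : ∃ j < 3, x = sigP ^ j * a := ⟨2 * k % 3, Nat.mod_lt _ (by norm_num), by
    rw [← pow_eq_pow_mod _ sigP_pow_three, ← e, ← mul_assoc, ← pow_add,
      show 2 * k + k = 3 * k by ring, pow_mul, sigP_pow_three, one_pow, one_mul]⟩
  have hcx : cols x = scal j (cols a) := by rw [hxj, cols_scal]
  have haA : cols a ∈ A0 := ea ▸ hk
  have hfix : ∀ v, v ∈ fixL (scal j (cols a)) ↔ x v = v := fun v => by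
    rw [← hcx, fixL, List.mem_filter, beq_iff_eq, app_cols hxA]
    exact and_iff_right (span_all v)
  have hcard : {v : W8 | x v = v}.ncard = (fixL (scal j (cols a))).length := by
    have hnd : (fixL (scal j (cols a))).Nodup := span_basis_nodup.filter _
    rw [← List.toFinset_card_of_nodup hnd,
      ← Set.ncard_coe_finset]
    congr 1
    ext v
    rw [List.coe_toFinset, Set.mem_setOf_eq]
    exact (hfix v).symm
  rw [← ncard_fix_conj y t, ← hx, hcard]
  rcases fix_scalar j hj _ haA with e1 | e1 | ⟨e1, u, -, hu, hb⟩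
  · exact absurd (conj_eq_one_iff.1 (perm_ext hxA (one_mem _) ((hcx.trans e1).trans cols_one.symm))) hne
  · exact Or.inl e1
  refine Or.inr ⟨e1, fun s hs hsfix => ?_, ?_⟩
  · have hsG : s ∈ GN := by
      by_contra hI
      have h1 := h.semi_fix hs hI
      have h2 : {v : W8 | t v = v}.ncard ≤ {v : W8 | s v = v}.ncard :=
        Set.ncard_le_ncard (fun v hv => hsfix v hv) (Set.toFinite _)
      rw [← ncard_fix_conj y t, ← hx, hcard, e1] at h2
      omega
    set r := y * s * y⁻¹ with hr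
    have hrG : r ∈ GN := mul_mem (mul_mem (h.inat.le hy) hsG) (inv_mem (h.inat.le hy))
    have hrfix : ∀ v, x v = v → r v = v := by
      intro v hv
      obtain ⟨w, rfl⟩ := y.surjective v
      rw [hx, perm_conj_apply] at hv
      rw [hr, perm_conj_apply, hsfix w (y.injective hv)]
    simp only [List.all_eq_true, List.any_eq_true, Bool.or_eq_true, bne_iff_ne, beq_iff_eq,
      Bool.not_eq_true', ← Bool.not_eq_true, List.all_eq_true] at hu hb
    have hall : ∀ z : Equiv.Perm W8, z ∈ GN → (∀ v, x v = v → z v = v) → z u = r u → z = r := by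
      intro z hz hzf hzu
      refine Equiv.ext fun v => W8.basis_add v hz.add hrG.add fun b hbb => ?_
      obtain ⟨f, hf, hcase⟩ := hb b hbb
      have hf' := (hfix f).1 hf
      have hzs : z (W8.sig u) = r (W8.sig u) := by rw [hz.sig rfl, hrG.sig rfl, hzu]
      rcases hcase with ((e2 | e2) | e2) | e2 <;> subst e2
      · rw [hzf b hf', hrfix b hf']
      · rw [hz.add, hrG.add, hzf f hf', hrfix f hf', hzu]
      · rw [hz.add, hrG.add, hzf f hf', hrfix f hf', hzs]
      · rw [hz.add, hrG.add, hzf f hf', hrfix f hf', hz.sig rfl, hrG.sig rfl, hzs]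
    have hxG : x ∈ GN := mul_mem (mul_mem (h.inat.le hy) hG) (inv_mem (h.inat.le hy))
    have hru := hu (r u) (span_all _)
    have hpow : r ∈ Subgroup.zpowers x := by
      rcases hru with (((e2 | e2) | e2) | e2) | e2
      · exact absurd (hrG.q u) e2
      · refine absurd (fun f hf => ?_) e2
        show bb (r u) f = bb u f
        conv_lhs => rw [← hrfix f ((hfix f).1 hf)]
        exact hrG.bb u f
      · rw [← hall 1 (one_mem _) (fun v _ => rfl) e2.symm]; exact one_mem _
      · rw [← hall x hxG (fun v hv => hv) (by rw [e2, ← hcx, app_cols hxA])]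
        exact Subgroup.mem_zpowers x
      · rw [← hall (x * x) (mul_mem hxG hxG)
          (fun v hv => by rw [Equiv.Perm.mul_apply, hv, hv]) (by rw [e2, ← hcx, app_cols hxA, app_cols hxA]; rfl)]
        exact mul_mem (Subgroup.mem_zpowers x) (Subgroup.mem_zpowers x)
    obtain ⟨m, hm⟩ := Subgroup.mem_zpowers_iff.1 hpow
    rw [hx, hr, conj_zpow] at hm
    exact Subgroup.mem_zpowers_iff.2 ⟨m, mul_left_cancel (mul_right_cancel hm)⟩
  · obtain ⟨m1, m2, -, -, hind, -⟩ := hyp_ok _ (List.mem_cons_self (a := ((W8.mk 1, perpL [W8.mk 1], A0.getD 4 [], A0.getD 5 []))))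
    simp only at m1 m2 hind
    obtain ⟨g1, hg1, eg1⟩ := h.real _ (A0_sub _ m1)
    obtain ⟨g2, hg2, eg2⟩ := h.real _ (A0_sub _ m2)
    have hc : ∀ {g : Equiv.Perm W8}, g ∈ I → cols g ∈ A0 → Commute (y⁻¹ * g * y) t := by
      intro g hg hgA
      have h1 : Commute g x := by
        rw [hxj]
        exact (h.scalar_comm (h.inat.le hg) j).mul_right
          (commute_of_cols (h.inat.add hg) (h.inat.add ha) (A0_mul _ hgA _ haA).2)
      have := h1.map (MulAut.conj y⁻¹).toMonoidHom
      simp only [MulEquiv.coe_toMonoidHom, MulAut.conj_apply, inv_inv] at this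
      rwa [show y⁻¹ * x * y = t by rw [hx]; group] at this
    refine ⟨y⁻¹ * g1 * y, y⁻¹ * g2 * y, mul_mem (mul_mem (inv_mem hy) hg1) hy,
      mul_mem (mul_mem (inv_mem hy) hg2) hy, ?_, ?_, ?_, ?_, hc hg1 (eg1.symm ▸ m1), hc hg2 (eg2.symm ▸ m2)⟩
    · nth_rw 2 [← inv_inv y]
      rw [conj_pow, h.pow_three_of_A0 hg1 (eg1.symm ▸ m1)]; simp
    · nth_rw 2 [← inv_inv y]
      rw [conj_pow, h.pow_three_of_A0 hg2 (eg2.symm ▸ m2)]; simp
    · have hc' : Commute g1 g2 := commute_of_cols (h.inat.add hg1) (h.inat.add hg2)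
        (by rw [eg1, eg2]; exact (A0_mul _ m1 _ m2).2)
      have := hc'.map (MulAut.conj y⁻¹).toMonoidHom
      simpa using this
    · intro i hi j' hj' hij
      have hab : g1 ^ i * g2 ^ j' = 1 := by
        have e2 : ∀ (g : Equiv.Perm W8) (n : ℕ), (y⁻¹ * g * y) ^ n = y⁻¹ * g ^ n * y := fun g n => by
          have := conj_pow (a := y⁻¹) (b := g) (i := n)
          rwa [inv_inv] at this
        rw [e2, e2, show y⁻¹ * g1 ^ i * y * (y⁻¹ * g2 ^ j' * y) = y⁻¹ * (g1 ^ i * g2 ^ j') * y⁻¹⁻¹ by group,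
          conj_eq_one_iff] at hij
        exact hij
      have hcp : ∀ {c : Equiv.Perm W8}, c ∈ addPerm → ∀ n : ℕ,
          cols (c ^ n : Equiv.Perm W8) = Nat.iterate (mulM (cols c)) n (cols id) := by
        intro c hc n
        induction n with
        | zero => rw [pow_zero, cols_one, Function.iterate_zero_apply]
        | succ n ih => rw [pow_succ', cols_mul hc, ih, Function.iterate_succ_apply']
      refine (hind i hi j' hj').resolve_right fun hne => hne ?_
      show mulM (Nat.iterate (mulM (A0.getD 4 [])) i (cols id)) (Nat.iterate (mulM (A0.getD 5 [])) j' (cols id)) = cols id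
      rw [← eg1, ← eg2, ← hcp (h.inat.add hg1), ← hcp (h.inat.add hg2),
        ← cols_mul (pow_mem (h.inat.add hg1) i), hab, cols_one]

end Img

end Cfsg.Agent.UThreeLocal.Two
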