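import Cfsg.Agent.Lib.UThreeLocal.Two.Involution

/-!
# The setting modulo the involution: the local subgroup is strongly three-embedded
-/

set_option autoImplicit false
set_option linter.unusedSectionVars false
set_option linter.style.haveILetI false

namespace Cfsg.Agent.UThreeLocal.Two

open Subgroup
open Cfsg.Agent.ThreeTransp.U62Cent (W8)
open Cfsg.Agent.ThreeTransp.U62Cent.W8 (qe bb)
open Cfsg.Agent.ThreeTransp.U62Cent (GN sigP)

universe u

/-- An elementary group of order `2⁸` with the natural module of `U₄(2)` in its normaliser, and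
a largest elementary three-subgroup whose centralisers and normaliser lie there. -/
structure Frame (Y : Type u) [Group Y] where
  R : Subgroup Y
  N : Subgroup Y
  A : Subgroup Y
  vec : Y → W8
  img : ↥N →* Equiv.Perm W8
  I : Subgroup (Equiv.Perm W8)
  himg : Img I img.range
  norm : normalizer (R : Set Y) = N
  vec_mul : ∀ {x y : Y}, x ∈ R → y ∈ R → vec (x * y) = vec x + vec y
  vec_inj : ∀ {x : Y}, x ∈ R → vec x = 0 → x = 1
  surj : ∀ v : W8, ∃ x ∈ R, vec x = v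
  ker : ∀ n : ↥N, img n = 1 ↔ (n : Y) ∈ R
  vec_conj : ∀ (n : ↥N) {x : Y}, x ∈ R → vec ((n : Y) * x * (n : Y)⁻¹) = img n (vec x)
  hAN : A ≤ N
  hA : Nat.card ↥A = 81 ∨ Nat.card ↥A = 27 ∧ sigP ∉ img.range
  hAcomm : ∀ a ∈ A, ∀ b ∈ A, Commute a b
  hAexp : ∀ a ∈ A, a ^ 3 = 1
  hAnorm : normalizer (A : Set Y) ≤ N

/-- A frame in which the centralisers of the elements of the elementary subgroup lie in the local
subgroup. -/
structure Setting (Y : Type u) [Group Y] extends Frame Y where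
  hAcent : ∀ a ∈ A, a ≠ 1 → centralizer ({a} : Set Y) ≤ N

namespace Frame

variable {Y : Type u} [Group Y] [Finite Y] (D : Frame Y)

theorem RN : D.R ≤ D.N := D.norm ▸ le_normalizer

theorem conj_R {n x : Y} (hn : n ∈ D.N) (hx : x ∈ D.R) : n * x * n⁻¹ ∈ D.R := by
  rw [← D.norm] at hn
  exact (mem_normalizer_iff.1 hn x).1 hx

theorem vec_one : D.vec 1 = 0 := by
  have h := D.vec_mul D.R.one_mem D.R.one_mem
  rw [one_mul] at h
  exact left_eq_add.1 h

theorem sq {x : Y} (hx : x ∈ D.R) : x * x = 1 :=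
  D.vec_inj (mul_mem hx hx) (by rw [D.vec_mul hx hx, Cfsg.Agent.ThreeTransp.U62Cent.W8.add_self])

theorem inv_eq {x : Y} (hx : x ∈ D.R) : x⁻¹ = x := inv_eq_of_mul_eq_one_right (D.sq hx)

theorem vec_ext {x y : Y} (hx : x ∈ D.R) (hy : y ∈ D.R) (h : D.vec x = D.vec y) : x = y := by
  have h1 : x * y = 1 := D.vec_inj (mul_mem hx hy)
    (by rw [D.vec_mul hx hy, h, Cfsg.Agent.ThreeTransp.U62Cent.W8.add_self])
  rw [eq_inv_of_mul_eq_one_left h1, D.inv_eq hy]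

theorem comm {x y : Y} (hx : x ∈ D.R) (hy : y ∈ D.R) : Commute x y :=
  D.vec_ext (mul_mem hx hy) (mul_mem hy hx) (by rw [D.vec_mul hx hy, D.vec_mul hy hx, add_comm])

/-- a chosen lift of a vector -/
noncomputable def lift (v : W8) : Y := (D.surj v).choose

theorem lift_mem (v : W8) : D.lift v ∈ D.R := (D.surj v).choose_spec.1

theorem vec_lift (v : W8) : D.vec (D.lift v) = v := (D.surj v).choose_spec.2

theorem card_R : Nat.card ↥D.R = 256 := by
  rw [show 256 = Nat.card W8 from (Nat.card_fin 256).symm]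
  exact Nat.card_congr
    { toFun := fun x => D.vec x
      invFun := fun v => ⟨D.lift v, D.lift_mem v⟩
      left_inv := fun x => Subtype.ext (D.vec_ext (D.lift_mem _) x.2 (D.vec_lift _))
      right_inv := D.vec_lift }

theorem img_mem (n : ↥D.N) : D.img n ∈ D.img.range := ⟨n, rfl⟩

theorem img_of_R {x : Y} (hx : x ∈ D.R) : D.img ⟨x, D.RN hx⟩ = 1 := (D.ker _).2 hx

/-- An element of the local subgroup fixing a vector centralises its lift. -/
theorem commute_of_fix (n : ↥D.N) {x : Y} (hx : x ∈ D.R) (h : D.img n (D.vec x) = D.vec x) :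
    Commute (n : Y) x := by
  have e : (n : Y) * x * (n : Y)⁻¹ = x := D.vec_ext (D.conj_R n.2 hx) hx ((D.vec_conj n hx).trans h)
  exact mul_inv_eq_iff_eq_mul.1 e

theorem fix_of_commute (n : ↥D.N) {x : Y} (hx : x ∈ D.R) (h : Commute (n : Y) x) :
    D.img n (D.vec x) = D.vec x := by
  rw [← D.vec_conj n hx, h.eq, mul_inv_cancel_right]

theorem orderOf_eq_three {d : Y} (h3 : d ^ 3 = 1) (h1 : d ≠ 1) : orderOf d = 3 :=
  haveI : Fact (Nat.Prime 3) := ⟨Nat.prime_three⟩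
  orderOf_eq_prime h3 h1

theorem not_R_of_three {d : Y} (h3 : d ^ 3 = 1) (h1 : d ≠ 1) : d ∉ D.R := fun h => h1 (by
  rw [pow_succ, pow_two, D.sq h, one_mul] at h3
  exact h3)

/-- An element of order three of the image lifts. -/
theorem exists_lift_three {t : Equiv.Perm W8} (ht : t ∈ D.img.range) (h3 : t ^ 3 = 1) (h1 : t ≠ 1) :
    ∃ n : ↥D.N, D.img n = t ∧ (n : Y) ^ 3 = 1 ∧ (n : Y) ≠ 1 := by
  obtain ⟨n, rfl⟩ := ht
  have hR : ((n ^ 3 : ↥D.N) : Y) ∈ D.R := (D.ker _).1 (by rw [map_pow, h3])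
  have h6 : ((n : Y) ^ 4) ^ 3 = 1 := by
    rw [← pow_mul, show 4 * 3 = 3 * 4 from rfl, pow_mul]
    have h2 : ((n : Y) ^ 3) * ((n : Y) ^ 3) = 1 := by simpa using D.sq hR
    calc ((n : Y) ^ 3) ^ 4 = ((n : Y) ^ 3 * (n : Y) ^ 3) ^ 2 := by group
      _ = 1 := by rw [h2, one_pow]
  have e : D.img (n ^ 4) = D.img n := by rw [map_pow, pow_succ, h3, one_mul]
  refine ⟨n ^ 4, e, by rw [SubgroupClass.coe_pow]; exact h6, fun h => h1 ?_⟩
  rw [← e, show (n ^ 4 : ↥D.N) = 1 from Subtype.ext h, map_one]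

/-- The image of the elementary subgroup. -/
def imgA : Subgroup (Equiv.Perm W8) := (D.A.subgroupOf D.N).map D.img

theorem mem_imgA {t : Equiv.Perm W8} : t ∈ D.imgA ↔ ∃ n : ↥D.N, (n : Y) ∈ D.A ∧ D.img n = t := by
  simp [imgA, Subgroup.mem_map, Subgroup.mem_subgroupOf]

theorem inj_three {B : Subgroup Y} (hB : B ≤ D.N) (hexp : ∀ a ∈ B, a ^ 3 = 1) :
    Nat.card ↥((B.subgroupOf D.N).map D.img) = Nat.card ↥B := by
  have hinj : Function.Injective (D.img.comp (B.subgroupOf D.N).subtype) := by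
    rw [injective_iff_map_eq_one]
    intro a ha
    have hR : ((a : ↥D.N) : Y) ∈ D.R := (D.ker _).1 ha
    by_contra hne
    exact D.not_R_of_three (hexp _ a.2) (fun e => hne (Subtype.ext (Subtype.ext e))) hR
  conv_lhs => rw [← range_subtype (B.subgroupOf D.N)]
  rw [← MonoidHom.range_comp,
    ← Nat.card_congr (MonoidHom.ofInjective hinj).toEquiv]
  exact Nat.card_congr (subgroupOfEquivOfLe hB).toEquiv

theorem card_A : Nat.card ↥D.A = 3 ^ 4 ∨ Nat.card ↥D.A = 3 ^ 3 := D.hA.imp id And.left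

theorem img_le {B : Subgroup Y} (hexp : ∀ a ∈ B, a ^ 3 = 1) :
    (B.subgroupOf D.N).map D.img ≤ D.img.range ⊓ GN := by
  rintro _ ⟨n, hn, rfl⟩
  refine ⟨D.img_mem n, D.himg.lin_of_pow_three (D.img_mem n) ?_⟩
  rw [← map_pow, show n ^ 3 = 1 from Subtype.ext (hexp _ hn), map_one]

theorem conj_image {B : Subgroup Y} (hB : B ≤ D.N) (hc : Nat.card ↥B = Nat.card ↥D.A)
    (hcomm : ∀ a ∈ B, ∀ b ∈ B, Commute a b) (hexp : ∀ a ∈ B, a ^ 3 = 1) :
    ∃ z ∈ D.I, ∀ g ∈ D.img.range ⊓ GN, InA (z * g * z⁻¹) ↔ g ∈ (B.subgroupOf D.N).map D.img := by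
  refine D.himg.conj_std _ (D.img_le hexp) ?_ ?_ ?_
  · rintro _ ⟨n, hn, rfl⟩
    rw [← map_pow, show n ^ 3 = 1 from Subtype.ext (hexp _ hn), map_one]
  · rintro _ ⟨m, hm, rfl⟩ _ ⟨k, hk, rfl⟩
    exact Commute.map (show Commute m k from Subtype.ext (hcomm _ hm _ hk).eq) _
  · rw [D.inj_three hB hexp, hc]
    exact D.hA

theorem exists_std : ∃ z ∈ D.I, ∀ g ∈ D.img.range ⊓ GN, InA (z * g * z⁻¹) ↔ g ∈ D.imgA :=
  D.conj_image D.hAN rfl D.hAcomm D.hAexp

/-- Every element of order three is conjugate into the elementary subgroup. -/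
theorem conj_three {d : Y} (hd : d ∈ D.N) (h3 : d ^ 3 = 1) :
    ∃ n ∈ D.N, n * d * n⁻¹ ∈ D.A := by
  obtain ⟨z, hz, hzA⟩ := D.exists_std
  have htG : D.img ⟨d, hd⟩ ∈ GN := D.himg.lin_of_pow_three (D.img_mem _)
    (by rw [← map_pow, show (⟨d, hd⟩ : ↥D.N) ^ 3 = 1 from Subtype.ext h3, map_one])
  obtain ⟨y, hy, hyA⟩ := D.himg.conj_three htG
    (by rw [← map_pow, show (⟨d, hd⟩ : ↥D.N) ^ 3 = 1 from Subtype.ext h3, map_one])
  obtain ⟨n, hn⟩ := D.himg.le (mul_mem (inv_mem hz) hy)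
  have hmem : z⁻¹ * y * D.img ⟨d, hd⟩ * (z⁻¹ * y)⁻¹ ∈ D.imgA := by
    have hw : z⁻¹ * y ∈ D.img.range ⊓ GN :=
      ⟨D.himg.le (mul_mem (inv_mem hz) hy), D.himg.inat.le (mul_mem (inv_mem hz) hy)⟩
    rw [← hzA _ (mul_mem (mul_mem hw ⟨D.img_mem _, htG⟩) (inv_mem hw))]
    convert hyA using 1
    group
  obtain ⟨a, ha, hae⟩ := D.mem_imgA.1 hmem
  set d' : Y := (n : Y) * d * (n : Y)⁻¹ with hd'
  have he : D.img (n * ⟨d, hd⟩ * n⁻¹) = D.img a := by
    rw [map_mul, map_mul, map_inv, hn, hae]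
  have hr : d' * (a : Y)⁻¹ ∈ D.R := (D.ker (n * ⟨d, hd⟩ * n⁻¹ * a⁻¹)).1 (by
    rw [map_mul, he, map_inv, mul_inv_cancel])
  set r := d' * (a : Y)⁻¹ with hr'
  have hd'a : d' = r * a := by rw [hr', inv_mul_cancel_right]
  set s : Y := (a : Y) * r * (a : Y)⁻¹ with hs
  have hsR : s ∈ D.R := D.conj_R a.2 hr
  have ha3 : (a : Y) ^ 3 = 1 := D.hAexp _ ha
  have hprod : r * ((a : Y) * r * (a : Y)⁻¹) * ((a : Y) ^ 2 * r * ((a : Y) ^ 2)⁻¹) = 1 := by
    have h := (show d' ^ 3 = 1 by rw [hd', conj_pow, h3, mul_one, mul_inv_cancel])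
    rw [hd'a] at h
    calc r * ((a : Y) * r * (a : Y)⁻¹) * ((a : Y) ^ 2 * r * ((a : Y) ^ 2)⁻¹)
        = (r * a) ^ 3 * ((a : Y) ^ 3)⁻¹ := by simp only [pow_succ, pow_zero, one_mul]; group
      _ = 1 := by rw [h, ha3]; simp
  refine ⟨s⁻¹ * n, mul_mem (inv_mem (D.RN hsR)) n.2, ?_⟩
  have key : s⁻¹ * d' * s = a := by
    have h2 : (a : Y) ^ 2 * r * ((a : Y) ^ 2)⁻¹ ∈ D.R := D.conj_R (pow_mem a.2 2) hr
    have e : (r * s)⁻¹ = (a : Y) ^ 2 * r * ((a : Y) ^ 2)⁻¹ := inv_eq_of_mul_eq_one_right hprod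
    rw [D.inv_eq (mul_mem hr hsR)] at e
    calc s⁻¹ * d' * s = s * (r * (a : Y)) * s := by rw [D.inv_eq hsR, hd'a]
      _ = r * s * ((a : Y) * s * (a : Y)⁻¹) * a := by
          rw [← mul_assoc s r, (D.comm hsR hr).eq]; group
      _ = a := by
          rw [show (a : Y) * s * (a : Y)⁻¹ = (a : Y) ^ 2 * r * ((a : Y) ^ 2)⁻¹ by
            rw [hs, pow_two]; group, e, D.sq h2, one_mul]
  rw [show s⁻¹ * (n : Y) * d * (s⁻¹ * (n : Y))⁻¹ = s⁻¹ * d' * s by rw [hd']; group, key]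
  exact ha

/-- An elementary subgroup of the same order is conjugate to the given one. -/
theorem conj_same {B : Subgroup Y} (hB : B ≤ D.N) (hc : Nat.card ↥B = Nat.card ↥D.A)
    (hcomm : ∀ a ∈ B, ∀ b ∈ B, Commute a b) (hexp : ∀ a ∈ B, a ^ 3 = 1) :
    ∃ n ∈ D.N, ∀ b ∈ B, n * b * n⁻¹ ∈ D.A := by
  haveI : Fact (Nat.Prime 3) := ⟨Nat.prime_three⟩
  obtain ⟨z, hz, hzA⟩ := D.exists_std
  obtain ⟨y, hy, hyA⟩ := D.conj_image hB hc hcomm hexp
  obtain ⟨n, hn⟩ := D.himg.le (mul_mem (inv_mem hz) hy)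
  -- both are Sylow in the preimage
  set H : Subgroup ↥D.N := D.imgA.comap D.img with hH
  have hHc : Nat.card ↥H = 256 * Nat.card ↥D.A := by
    set f := D.img.comp H.subtype
    have h1 := f.ker.card_mul_index
    have hk : Nat.card ↥f.ker = 256 := by
      rw [← D.card_R]
      exact Nat.card_congr
        { toFun := fun a => ⟨((a : ↥H) : ↥D.N), (D.ker _).1 a.2⟩
          invFun := fun r => ⟨⟨⟨r, D.RN r.2⟩, show D.img _ ∈ D.imgA by
            rw [D.img_of_R r.2]; exact one_mem _⟩, D.img_of_R r.2⟩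
          left_inv := fun a => rfl
          right_inv := fun r => rfl }
    have hi : f.ker.index = Nat.card ↥D.A := by
      rw [Subgroup.index_ker, show f.range = D.imgA from ?_]
      · exact D.inj_three D.hAN D.hAexp
      rw [MonoidHom.range_comp, range_subtype, hH, map_comap_eq]
      exact inf_eq_right.2 (map_le_range _ _)
    rw [← h1, hk, hi]
  let B2 : Subgroup ↥D.N := (B.subgroupOf D.N).map (MulAut.conj n).toMonoidHom
  have hB2 : B2 ≤ H := by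
    rintro _ ⟨b, hb, rfl⟩
    show D.img (n * b * n⁻¹) ∈ D.imgA
    have hbG : D.img b ∈ D.img.range ⊓ GN := D.img_le hexp ⟨b, hb, rfl⟩
    have hw : z⁻¹ * y ∈ D.img.range ⊓ GN :=
      ⟨D.himg.le (mul_mem (inv_mem hz) hy), D.himg.inat.le (mul_mem (inv_mem hz) hy)⟩
    rw [map_mul, map_mul, map_inv, hn, ← hzA _ (mul_mem (mul_mem hw hbG) (inv_mem hw))]
    convert (hyA _ hbG).2 ⟨b, hb, rfl⟩ using 1
    group
  have hAH : D.A.subgroupOf D.N ≤ H := fun a ha => ⟨a, ha, rfl⟩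
  have mk : ∀ T : Subgroup ↥D.N, T ≤ H → Nat.card ↥T = Nat.card ↥D.A →
      ∃ P : Sylow 3 ↥H, (P : Subgroup ↥H) = T.subgroupOf H := by
    intro T hT hTc
    have hc' : Nat.card ↥(T.subgroupOf H) = Nat.card ↥D.A :=
      (Nat.card_congr (subgroupOfEquivOfLe hT).toEquiv).trans hTc
    have hp : IsPGroup 3 ↥(T.subgroupOf H) :=
      D.card_A.elim (fun e => IsPGroup.of_card (n := 4) (hc'.trans e)) fun e => IsPGroup.of_card (n := 3) (hc'.trans e)
    have hi : ¬ 3 ∣ (T.subgroupOf H).index := by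
      have := (T.subgroupOf H).card_mul_index
      rw [hc', hHc, mul_comm 256] at this
      rw [Nat.eq_of_mul_eq_mul_left Nat.card_pos this]
      norm_num
    exact ⟨hp.toSylow hi, rfl⟩
  obtain ⟨P, hP⟩ := mk B2 hB2 (by
    rw [show Nat.card ↥B2 = Nat.card ↥(B.subgroupOf D.N) from
      (Nat.card_congr (equivMapOfInjective _ _ (MulAut.conj n).injective).toEquiv).symm,
      Nat.card_congr (subgroupOfEquivOfLe hB).toEquiv, hc])
  obtain ⟨Q, hQ⟩ := mk _ hAH (Nat.card_congr (subgroupOfEquivOfLe D.hAN).toEquiv)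
  obtain ⟨k, hk⟩ := MulAction.exists_smul_eq ↥H P Q
  refine ⟨((k : ↥D.N) * n : ↥D.N), SetLike.coe_mem _, fun b hb => ?_⟩
  let bn : ↥D.N := ⟨b, hB hb⟩
  have hbm : n * bn * n⁻¹ ∈ B2 := ⟨bn, hb, rfl⟩
  have hm : k * ⟨_, hB2 hbm⟩ * k⁻¹ ∈ ((k • P : Sylow 3 ↥H) : Subgroup ↥H) := by
    rw [Sylow.coe_subgroup_smul]
    exact ⟨⟨_, hB2 hbm⟩, by rw [hP]; exact hbm, rfl⟩
  rw [hk, hQ] at hm
  have hm' : ((k : ↥D.N) : Y) * ((n : Y) * b * (n : Y)⁻¹) * ((k : ↥D.N) : Y)⁻¹ ∈ D.A := hm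
  convert hm' using 1
  push_cast
  group

theorem vec_eq_zero {x : Y} (hx : x ∈ D.R) (h1 : x ≠ 1) : D.vec x ≠ 0 := fun h => h1 (D.vec_inj hx h)

end Frame

namespace Setting

variable {Y : Type u} [Group Y] [Finite Y] (D : Setting Y)

/-- The centraliser of an element of order three lies in the local subgroup. -/
theorem cent_three {d : Y} (hd : d ∈ D.N) (h3 : d ^ 3 = 1) (h1 : d ≠ 1) :
    centralizer ({d} : Set Y) ≤ D.N := by
  obtain ⟨n, hn, hna⟩ := D.conj_three hd h3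
  intro c hc
  have h := D.hAcent _ hna (by simpa [conj_eq_one_iff] using h1)
    (show n * c * n⁻¹ ∈ centralizer ({n * d * n⁻¹} : Set Y) from mem_centralizer_singleton_iff.2 (by
      calc n * c * n⁻¹ * (n * d * n⁻¹) = n * (c * d) * n⁻¹ := by group
        _ = n * (d * c) * n⁻¹ := by rw [mem_centralizer_singleton_iff.1 hc]
        _ = _ := by group))
  have := mul_mem (mul_mem (inv_mem hn) h) hn
  simpa [mul_assoc] using this

/-- The local subgroup is strongly three-embedded. -/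
theorem strong {d g : Y} (hd : d ∈ D.N) (h3 : d ^ 3 = 1) (h1 : d ≠ 1) (hg : g * d * g⁻¹ ∈ D.N) :
    g ∈ D.N := by
  obtain ⟨n₁, hn₁, ha⟩ := D.conj_three hd h3
  obtain ⟨n₂, hn₂, ha'⟩ := D.conj_three hg (by rw [conj_pow, h3, mul_one, mul_inv_cancel])
  set g' := n₂ * g * n₁⁻¹ with hg'
  have hga : g' * (n₁ * d * n₁⁻¹) * g'⁻¹ = n₂ * (g * d * g⁻¹) * n₂⁻¹ := by rw [hg']; group
  let B := D.A.map (MulAut.conj g').toMonoidHom
  have hBN : B ≤ D.N := by
    rintro _ ⟨a, haA, rfl⟩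
    refine D.hAcent _ ha' (by simpa [conj_eq_one_iff] using h1) (mem_centralizer_singleton_iff.2 ?_)
    rw [← hga]
    exact ((D.hAcomm a haA _ ha).map (MulAut.conj g').toMonoidHom).eq
  have hBc : Nat.card ↥B = Nat.card ↥D.A :=
    (Nat.card_congr (equivMapOfInjective D.A _ (MulAut.conj g').injective).toEquiv).symm
  obtain ⟨n, hn, hnB⟩ := D.conj_same hBN hBc
    (by rintro _ ⟨a, haA, rfl⟩ _ ⟨b, hbA, rfl⟩; exact (D.hAcomm a haA b hbA).map _)
    (by rintro _ ⟨a, haA, rfl⟩; rw [← map_pow, D.hAexp a haA, map_one])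
  have hng : n * g' ∈ normalizer (D.A : Set Y) := mem_normalizer_fintype fun a haA => by
    have h := hnB _ ⟨a, haA, rfl⟩
    simp only [MulEquiv.coe_toMonoidHom, MulAut.conj_apply] at h
    show n * g' * a * (n * g')⁻¹ ∈ D.A
    convert h using 1
    group
  have h := mul_mem (mul_mem (inv_mem hn₂) (mul_mem (inv_mem hn) (D.hAnorm hng))) hn₁
  convert h using 1
  rw [hg']
  group

/-- A Sylow three-subgroup of a centraliser meeting the local subgroup lies in it. -/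
theorem sylow_three {H : Subgroup Y} (P : Sylow 3 ↥H) {d : ↥H} (hdP : d ∈ (P : Subgroup ↥H))
    (hd : (d : Y) ∈ D.N) (h3 : (d : Y) ^ 3 = 1) (h1 : (d : Y) ≠ 1) :
    ∀ x ∈ (P : Subgroup ↥H), (x : Y) ∈ D.N := by
  haveI : Fact (Nat.Prime 3) := ⟨Nat.prime_three⟩
  set L : Subgroup ↥(P : Subgroup ↥H) := (D.N.comap H.subtype).comap (P : Subgroup ↥H).subtype
  haveI := P.2.isNilpotent
  suffices h : L = ⊤ by
    intro x hx
    exact (h ▸ mem_top _ : (⟨x, hx⟩ : ↥(P : Subgroup ↥H)) ∈ L)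
  refine normalizerCondition_iff_only_full_group_self_normalizing.1 normalizerCondition_of_isNilpotent L ?_
  refine le_antisymm (fun x hx => ?_) le_normalizer
  have hdL : (⟨d, hdP⟩ : ↥(P : Subgroup ↥H)) ∈ L := hd
  exact D.strong hd h3 h1 (((mem_normalizer_iff.1 hx) _).1 hdL)

/-- Elements centralised by elements of order three of the local subgroup are fused there only. -/
theorem fusion {x y g : Y} (hxy : g * x * g⁻¹ = y)
    (hx : ∃ d ∈ D.N, d ^ 3 = 1 ∧ d ≠ 1 ∧ Commute d x)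
    (hy : ∃ d ∈ D.N, d ^ 3 = 1 ∧ d ≠ 1 ∧ Commute d y) :
    ∃ n ∈ D.N, n * x * n⁻¹ = y := by
  haveI : Fact (Nat.Prime 3) := ⟨Nat.prime_three⟩
  obtain ⟨d, hdN, hd3, hd1, hdx⟩ := hx
  obtain ⟨e, heN, he3, he1, hey⟩ := hy
  set H := centralizer ({y} : Set Y)
  have pg : ∀ {b : ↥H}, (b : Y) ^ 3 = 1 → IsPGroup 3 ↥(zpowers b) := by
    intro b hb
    obtain ⟨i, -, hi⟩ := (Nat.dvd_prime_pow Nat.prime_three).1
      (show orderOf b ∣ 3 ^ 1 by rw [pow_one]; exact orderOf_dvd_of_pow_eq_one (Subtype.ext hb))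
    exact IsPGroup.of_card (n := i) (by rw [Nat.card_zpowers, hi])
  let e' : ↥H := ⟨e, mem_centralizer_singleton_iff.2 hey⟩
  let d' : ↥H := ⟨g * d * g⁻¹, mem_centralizer_singleton_iff.2 (by
    rw [← hxy]; exact (hdx.map (MulAut.conj g).toMonoidHom).eq)⟩
  obtain ⟨P, hP⟩ := (pg (b := e') he3).exists_le_sylow
  obtain ⟨Q, hQ⟩ := (pg (b := d') (by
    show (g * d * g⁻¹) ^ 3 = 1
    rw [conj_pow, hd3, mul_one, mul_inv_cancel])).exists_le_sylow
  obtain ⟨c, hc⟩ := MulAction.exists_smul_eq ↥H Q P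
  have hm : c * d' * c⁻¹ ∈ ((c • Q : Sylow 3 ↥H) : Subgroup ↥H) := by
    rw [Sylow.coe_subgroup_smul]
    exact ⟨d', hQ (mem_zpowers _), rfl⟩
  rw [hc] at hm
  have hN : (c : Y) * g * d * ((c : Y) * g)⁻¹ ∈ D.N := by
    have := D.sylow_three P (d := e') (hP (mem_zpowers _)) heN he3 he1 _ hm
    convert this using 1
    simp only [d']
    push_cast
    group
  refine ⟨(c : Y) * g, D.strong hdN hd3 hd1 hN, ?_⟩
  rw [show (c : Y) * g * x * ((c : Y) * g)⁻¹ = (c : Y) * (g * x * g⁻¹) * (c : Y)⁻¹ by group, hxy,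
    mem_centralizer_singleton_iff.1 c.2, mul_inv_cancel_right]

/-- Every element of the module is centralised by an element of order three. -/
theorem three_of_R {x : Y} (hx : x ∈ D.R) : ∃ d ∈ D.N, d ^ 3 = 1 ∧ d ≠ 1 ∧ Commute d x := by
  by_cases h1 : x = 1
  · haveI : Fact (Nat.Prime 3) := ⟨Nat.prime_three⟩
    obtain ⟨a, ha⟩ := exists_prime_orderOf_dvd_card' (G := ↥D.A) 3 (by rcases D.card_A with e | e <;> rw [e] <;> norm_num)
    refine ⟨a, D.hAN a.2, D.hAexp _ a.2, fun e => ?_, h1 ▸ Commute.one_right _⟩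
    rw [show a = 1 from Subtype.ext e, orderOf_one] at ha
    norm_num at ha
  obtain ⟨d, hd, hd3, hd1, hfix⟩ := D.himg.vec_three (D.vec_eq_zero hx h1)
  obtain ⟨n, hn, hn3, hn1⟩ := D.exists_lift_three (D.himg.le hd) hd3 hd1
  exact ⟨n, n.2, hn3, hn1, D.commute_of_fix n hx (by rw [hn]; exact hfix)⟩

end Setting

end Cfsg.Agent.UThreeLocal.Two
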